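import Cfsg.Agent.Spor.ThL.D0

set_option autoImplicit false
set_option maxRecDepth 100000000
set_option Elab.async false

namespace Cfsg.Agent.Spor.ThL

theorem ok0 : Net.okb 10 n0 = true := by decide +kernel

theorem ok1 : Net.okb 10 n1 = true := by decide +kernel

theorem ok2 : Net.okb 10 n2 = true := by decide +kernel

theorem ok3 : Net.okb 10 n3 = true := by decide +kernel

theorem ok4 : Net.okb 10 n4 = true := by decide +kernel

theorem ok5 : Net.okb 10 n5 = true := by decide +kernel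

theorem rel0 : T.rel 10 [1, 1] 0 10 = true := by decide +kernel

theorem rel1 : T.rel 10 [2, 2] 0 10 = true := by decide +kernel

theorem rel2 : T.rel 10 [3, 3] 0 10 = true := by decide +kernel

theorem rel3 : T.rel 10 [4, 4] 0 10 = true := by decide +kernel

theorem rel4 : T.rel 10 [5, 5] 0 10 = true := by decide +kernel

theorem rel5 : T.rel 10 [2, 1, 2, 1, 2, 1] 0 10 = true := by decide +kernel

theorem rel6 : T.rel 10 [5, 1, 5, 1] 0 10 = true := by decide +kernel

theorem rel7 : T.rel 10 [3, 2, 3, 2, 3, 2] 0 10 = true := by decide +kernel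

theorem rel8 : T.rel 10 [4, 2, 4, 2] 0 10 = true := by decide +kernel

theorem rel9 : T.rel 10 [5, 2, 5, 2] 0 10 = true := by decide +kernel

theorem rel10 : T.rel 10 [9, 10, 9, 10, 9, 10, 9, 10, 1] 0 10 = true := by decide +kernel

theorem rel11 : T.rel 10 [5, 3, 5, 3] 0 10 = true := by decide +kernel

theorem rel12 : T.rel 10 [5, 4, 5, 4, 5, 4] 0 10 = true := by decide +kernel

theorem rel13 : T.rel 10 [5, 4, 3, 2, 5, 4, 3, 2, 5, 4, 3, 2, 5, 4, 3, 2, 5, 4, 3, 2, 5, 4, 3, 2, 5, 4, 3, 2, 5, 4, 3, 2] 0 10 = true := by decide +kernel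

theorem rel14 : T.rel 10 [6, 6, 6, 6, 6, 6, 6] 0 10 = true := by decide +kernel

theorem rel15 : T.rel 10 [1, 6, 7, 12] 0 10 = true := by decide +kernel

theorem rel16 : T.rel 10 [2, 6, 8, 12] 0 10 = true := by decide +kernel

theorem rel17 : T.rel 10 [3, 6, 9, 12] 0 10 = true := by decide +kernel

theorem rel18 : T.rel 10 [4, 6, 4, 6] 0 10 = true := by decide +kernel

theorem rel19 : T.rel 10 [6, 6, 6, 11, 12, 12, 5, 12, 11] 0 10 = true := by decide +kernel

theorem hcov : T.treeCov (ones 819) L 1 = true := by decide +kernel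

theorem hg : lall (fun z => band (memL L z) (band (sub (ones 819) (T.let z).cl) (T.closed (ones 819) z))) gs = true := by decide +kernel

theorem hivk : ivOk (2 * 0) EX IV = true := by decide +kernel

theorem hrt : RT.ok (2 * 0) EX RL = true := by decide +kernel

theorem hdefs : defs F 487 = true := by decide +kernel

noncomputable def st0_l : List Nat := [nat_lit 0x3ff, nat_lit 0x3ff, nat_lit 0x3ff, nat_lit 0x3ff, nat_lit 0x3ff, nat_lit 0x1, nat_lit 0x1e9000f6003, nat_lit 0x1ea000f6003, nat_lit 0x1eb80000403, nat_lit 0x801, nat_lit 0x2001ee000f8003, nat_lit 0x2001ef80000c03, nat_lit 0x800000003ce001ec000f8005, nat_lit 0x1001, nat_lit 0x4001ee000fa003, nat_lit 0x4001ef80001403, nat_lit 0x1000000003d0001ec000fa005, nat_lit 0x1801, nat_lit 0x6001f1000fc003, nat_lit 0x6001f280001c03, nat_lit 0x2001, nat_lit 0x8001f7000fd803, nat_lit 0x8001f6000fd803, nat_lit 0x2801, nat_lit 0xa001f9000ff003, nat_lit 0xa001fa80002c03, nat_lit 0x280000c003e6001f8000ff005, nat_lit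 0x3001, nat_lit 0xc001fa00101003, nat_lit 0x3801, nat_lit 0xe001fd80003c03, nat_lit 0x4001, nat_lit 0x10001fc00103003, nat_lit 0x4000010003ea001fb00103005, nat_lit 0x4801, nat_lit 0x120000500101003, nat_lit 0x120020000104803, nat_lit 0x5001, nat_lit 0x140020380005403, nat_lit 0x5801, nat_lit 0x5800018003f20020200107005, nat_lit 0x6001, nat_lit 0x180020580006403, nat_lit 0x600001c003f80020400108005, nat_lit 0x6801, nat_lit 0x1a0000700103003, nat_lit 0x1c0020700007403, nat_lit 0x1c002140000cc03, nat_lit 0x1c0020800007c03, nat_lit 0x700001c00206800fec008180001d0001c8001ac08, nat_lit 0x1e0020780007c03, nat_lit 0x1e002140000d403, nat_lit 0x8001, nat_lit 0x200020b80008403, nat_lit 0x8801, nat_lit 0x8800024003fe002090010e805, nat_lit 0x9001, nat_lit 0x240020d80009403, nat_lit 0x9801, nat_lit 0x260000a00107003, nat_lit 0x280022200013403, nat_lit 0xa4000280020e80101c00838000290002980024408, nat_lit 0x2a0022200013c03, nat_lit 0xb001, nat_lit 0x2c002118000b403, nat_lit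 0xb801, nat_lit 0x2e0000c00109803, nat_lit 0x2e0021200114003, nat_lit 0xc001, nat_lit 0x60000180000d403, nat_lit 0x320022900016c03, nat_lit 0x320022b00018c03, nat_lit 0xcc000320021380102c0084c00033000338002cc08, nat_lit 0x340022900017403, nat_lit 0xd801, nat_lit 0x38002158000e403, nat_lit 0x380021680019c03, nat_lit 0xe801, nat_lit 0xf001, nat_lit 0x3c0021c8000f403, nat_lit 0xf801, nat_lit 0x3e0021c0011b803, nat_lit 0x10001, nat_lit 0x40000100010e803, nat_lit 0x420023a0001cc03, nat_lit 0xf0000420021d80105c00874000430003c80030408, nat_lit 0x440023a0001d403, nat_lit 0x460022080011c03, nat_lit 0x12001, nat_lit 0x480001200110803, nat_lit 0x12801, nat_lit 0x860002500013c03, nat_lit 0x4c0024000020403, nat_lit 0x4c0024100022403, nat_lit 0x1180004c0022180106c008840004d0004680037c08, nat_lit 0x4e0024000020c03, nat_lit 0x14001, nat_lit 0x520022380023403, nat_lit 0x15001, nat_lit 0x15801, nat_lit 0x560001600114003, nat_lit 0x16001, nat_lit 0x9a0002c00017403, nat_lit 0x5a0024b00025403,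 nat_lit 0x5a0022a00016c03, nat_lit 0x5a0024c00027403, nat_lit 0x1400005a0022880108c008a00005b000508003f408, nat_lit 0x5c0024b00025c03, nat_lit 0x5c0022a80017403, nat_lit 0x17801, nat_lit 0xa60002f00018403, nat_lit 0xa80002f00018c03, nat_lit 0x62002540002a403, nat_lit 0x19001, nat_lit 0x660022d80028403, nat_lit 0x1a001, nat_lit 0x1b001, nat_lit 0x6c002368001b403, nat_lit 0x1b801, nat_lit 0x6e0001e0011b803, nat_lit 0x6e002360012e803, nat_lit 0x1c001, nat_lit 0x700001e0011c803, nat_lit 0x72002610002ec03, nat_lit 0x74002610002f403, nat_lit 0x1d801, nat_lit 0x780023b8002fc03, nat_lit 0x1e801, nat_lit 0x1f001, nat_lit 0x7c000230011f803, nat_lit 0x1f801, nat_lit 0xca0003f00020c03, nat_lit 0x800026800031403, nat_lit 0x800026900033403, nat_lit 0x1a0000800023f801104008fc00081000688004ac08, nat_lit 0x820026800031c03, nat_lit 0x21001, nat_lit 0xd60004200021c03, nat_lit 0x860026f00035c03, nat_lit 0x880026f00036403, nat_lit 0x22801, nat_lit 0x8c0024380034403, nat_lit 0x23801,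 nat_lit 0x24801, nat_lit 0x940027600039403, nat_lit 0x26001, nat_lit 0xf00004c00026c03, nat_lit 0xf20004c00027403, nat_lit 0x9a002780003c403, nat_lit 0x9c002780003cc03, nat_lit 0x27801, nat_lit 0x9e0024f8013e803, nat_lit 0xa00024e8003a403, nat_lit 0xa00024f80028403, nat_lit 0x28801, nat_lit 0x100000520002a403, nat_lit 0x2a801, nat_lit 0x2b801, nat_lit 0x2d801, nat_lit 0xb60025c00142803, nat_lit 0x2e001, nat_lit 0xbe0026280043c03, nat_lit 0x30801, nat_lit 0x1160006100031c03, nat_lit 0xc40028900046403, nat_lit 0x238000c4002678011f40099c000c50008e8005b408, nat_lit 0x32001, nat_lit 0xcc0028d00048c03, nat_lit 0x33801, nat_lit 0xd00026b80047403, nat_lit 0x34801, nat_lit 0x35001, nat_lit 0x36801, nat_lit 0x38001, nat_lit 0x1360007000038c03, nat_lit 0x1380007000039403, nat_lit 0xe2002940004dc03, nat_lit 0xe4002940004e403, nat_lit 0x39801, nat_lit 0x3a801, nat_lit 0x3b001, nat_lit 0x144000760003cc03, nat_lit 0x3b801, nat_lit 0x146000770003cc03, nat_lit 0xf20029b00051403,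 nat_lit 0xf60027b80052c03, nat_lit 0xf60027900052c03, nat_lit 0x3e001, nat_lit 0xfa0027c80053c03, nat_lit 0x3f801, nat_lit 0x40801, nat_lit 0x1020025680142003, nat_lit 0x41001, nat_lit 0x41801, nat_lit 0x42801, nat_lit 0x43001, nat_lit 0x44001, nat_lit 0x44801, nat_lit 0x45001, nat_lit 0x1660008a00045c03, nat_lit 0x46801, nat_lit 0x47801, nat_lit 0x48001, nat_lit 0x16e0009000048c03, nat_lit 0x122002b10005bc03, nat_lit 0x49801, nat_lit 0x1280028e8005c403, nat_lit 0x4b001, nat_lit 0x4c801, nat_lit 0x180000990004dc03, nat_lit 0x182000990004e403, nat_lit 0x4d001, nat_lit 0x1840009a0004e403, nat_lit 0x268000e00004900125c008a800498002780014e808, nat_lit 0x26a005790029d8013c400932004550002c80026408, nat_lit 0x136002bd8003c403, nat_lit 0x136002b700060403, nat_lit 0x136002ba00061c03, nat_lit 0x138002bd8003cc03, nat_lit 0x138002b700060c03, nat_lit 0x13a0029780062403, nat_lit 0x13a0029500062403, nat_lit 0x4f001, nat_lit 0x13e0029880063403, nat_lit 0x50001, nat_lit 0x142000760014e803,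 nat_lit 0x192000a100051403, nat_lit 0x146002c800064c03, nat_lit 0x146002bc00061403, nat_lit 0x148002bc00061c03, nat_lit 0x14a002be00062403, nat_lit 0x53001, nat_lit 0x14c0027a80151003, nat_lit 0x14e0029f80065c03, nat_lit 0x54001, nat_lit 0x54801, nat_lit 0x55001, nat_lit 0x156002a380067c03, nat_lit 0x56001, nat_lit 0x15a0028280152803, nat_lit 0x57001, nat_lit 0x58801, nat_lit 0x59001, nat_lit 0x1ae000b200059c03, nat_lit 0x166002d90006bc03, nat_lit 0x168002ae0006c403, nat_lit 0x5b001, nat_lit 0x170002b20006d403, nat_lit 0x170002b38006d403, nat_lit 0x5e001, nat_lit 0x5f001, nat_lit 0x5f801, nat_lit 0x17e000990015d003, nat_lit 0x180002e200070c03, nat_lit 0x184002e300070403, nat_lit 0x186002e300070c03, nat_lit 0x188002bf80071403, nat_lit 0x62801, nat_lit 0x18a0029680162803, nat_lit 0x18c002c280071c03, nat_lit 0x63801, nat_lit 0x190002c680073c03, nat_lit 0x65001, nat_lit 0x198002ca80074403, nat_lit 0x19a002cc80072c03, nat_lit 0x67001, nat_lit 0x19c002a100169003,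 nat_lit 0x68001, nat_lit 0x6a001, nat_lit 0x6a801, nat_lit 0x6b001, nat_lit 0x1b0002db80077403, nat_lit 0x1b0002da00077403, nat_lit 0x6d801, nat_lit 0x6e001, nat_lit 0x6f001, nat_lit 0x6f801, nat_lit 0x1c8002e580079403, nat_lit 0x73001, nat_lit 0x1ce002ea80079c03, nat_lit 0x75001, nat_lit 0x76001, nat_lit 0x76801, nat_lit 0x77801, nat_lit 0x78801, nat_lit 0x1c0000800002000f6800006003f00020200106008, nat_lit 0x830006080000700002000008003da001f4000fd808, nat_lit 0x3c0040d001fd000fe8007f4000110000e80118808, nat_lit 0xc180001e00008000fe8007f4000110000f8011a008, nat_lit 0xc001fe00104803, nat_lit 0x540041d002030010180080c000170001480123808, nat_lit 0xc240002a0000b0010180080c000170001580124808, nat_lit 0x100020400109803, nat_lit 0x41a0030400102803, nat_lit 0x680042700205001028008140001b000198012c008, nat_lit 0xc34000340000d001028008140001b0001a8012d008, nat_lit 0x160030580103003, nat_lit 0x18580081c004280022900115005, nat_lit 0x160020a0010e803, nat_lit 0x9000028004140021b0011a805,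 nat_lit 0x880043b0020b0010580082c000230002180132008, nat_lit 0xc4c00044000110010580082c000230002280133008, nat_lit 0x160020c00110803, nat_lit 0xf000040006100020c0010f805, nat_lit 0x9c004430020d00106800834000270002680139808, nat_lit 0xc5c0004e000130010680083400027000278013a808, nat_lit 0x220030800107003, nat_lit 0x1080004a0031500107800c3e004280022b0012a008, nat_lit 0x950006340004200012800c540041e0022200120808, nat_lit 0x240030400108003, nat_lit 0x4220031c00110003, nat_lit 0xb80045100211001088008440002f0002d8013e808, nat_lit 0xc780005c00017001088008440002f0002e80140808, nat_lit 0x16c004b7003120018e80084800638003160012e808, nat_lit 0xc2c004100021400115800950006340004200012808, nat_lit 0x42a002178010cc03, nat_lit 0x10b001, nat_lit 0x1278008b40042c0021500191805, nat_lit 0x4300023380117c03, nat_lit 0x10d001, nat_lit 0x4b50021a0000ec03, nat_lit 0x129c008c0004340021980193005, nat_lit 0x220021b0011c803, nat_lit 0x260021f0011f803, nat_lit 0x1040047f0022000110000880000490004080147808,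 nat_lit 0xcac000820002400110000880000490004180148808, nat_lit 0xc000034006180022100120805, nat_lit 0x4480024880122c03, nat_lit 0x224000148000500002b0030980185406, nat_lit 0x112801, nat_lit 0x2e0022600125003, nat_lit 0x12c00495002270011380089c000570004a8014c808, nat_lit 0xcc8000960002b0011380089c000570004b8014d008, nat_lit 0x1f8000900063a0022800126005, nat_lit 0x300022900126003, nat_lit 0x580031000115803, nat_lit 0x116001, nat_lit 0x2d0000d0004580028300153805, nat_lit 0x117001, nat_lit 0x22f00019800064000350030d80187406, nat_lit 0x49b002300019bc03, nat_lit 0x503002300001a403, nat_lit 0x119801, nat_lit 0x14000096400466002320019e805, nat_lit 0x3e002350012e803, nat_lit 0x178004c1002360011b0008d8000710005d80155008, nat_lit 0xd00000bc000380011b0008d8000710005e80155808, nat_lit 0x23c0001e00008400045003138018a406, nat_lit 0x18c004cf0023e0011f0008f80007d0006280157808, nat_lit 0xd0c000c60003e0011f0008f80007d0006380158008, nat_lit 0x70003120011f803, nat_lit 0x1600005c006380023f00134805,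 nat_lit 0x4a0024000134803, nat_lit 0x198800c40006430024000134005, nat_lit 0x7e0032a00120803, nat_lit 0x121001, nat_lit 0x121801, nat_lit 0x122001, nat_lit 0x48a0027480136c03, nat_lit 0x245000230000980004f003178018c406, nat_lit 0x123001, nat_lit 0x4d500246001a5403, nat_lit 0x126801, nat_lit 0xb3200580002be8013cc00d44004a60024d0013dc08, nat_lit 0x948004a60024d0013dc00d4800599002c00014ac08, nat_lit 0x127001, nat_lit 0x128001, nat_lit 0x4a0003248019c803, nat_lit 0xb06004f50025000127c00d54004f90029e00165c08, nat_lit 0x4a20033e80117c03, nat_lit 0x129001, nat_lit 0x5350025200028c03, nat_lit 0x664002520018f403, nat_lit 0x840032d0012a003, nat_lit 0x131801, nat_lit 0x5590026500030403, nat_lit 0x135001, nat_lit 0x4d80034b801a6003, nat_lit 0x4da0029080146403, nat_lit 0x137001, nat_lit 0xd20034f8013a803, nat_lit 0xc2003480013b003, nat_lit 0x13b801, nat_lit 0x290000bc0066c002780014d805, nat_lit 0x59d0027c0003e403, nat_lit 0x58f0027f0003f403, nat_lit 0x540001e8006a20028100152005,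 nat_lit 0xf40033b80141803, nat_lit 0x5b10028800044c03, nat_lit 0x145001, nat_lit 0x145801, nat_lit 0x980033400146803, nat_lit 0x11e0036280148803, nat_lit 0x5c800248006be002910015b005, nat_lit 0xa40031a00149003, nat_lit 0xa40035c00149003, nat_lit 0x2bc001060005600018000cb600089002930004bc08, nat_lit 0x5940029e8014e003, nat_lit 0x14f001, nat_lit 0x5930029f001bac03, nat_lit 0x5db0029f00053403, nat_lit 0x5e1002a000054c03, nat_lit 0xae0035600151003, nat_lit 0x1bbc00d9e006f2002a60016b005, nat_lit 0x15c0033800154803, nat_lit 0xda003600015a003, nat_lit 0x348001520007b00026800d1a000cd002b40005d408, nat_lit 0x5f1002b50005e403, nat_lit 0x570002e480173003, nat_lit 0x5ca002bb8015c803, nat_lit 0x15e001, nat_lit 0x5fb002c300063c03, nat_lit 0x165801, nat_lit 0x166801, nat_lit 0x1040036a00168803, nat_lit 0x758003400070a002d70017a805, nat_lit 0x605002df0006dc03, nat_lit 0x177001, nat_lit 0x1cc0038480178003, nat_lit 0x1580036900179003, nat_lit 0x1aa002f300180803, nat_lit 0x1d60038a00179803,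 nat_lit 0x17c003700017c803, nat_lit 0x1be002fa00181803, nat_lit 0x1e00038d0017d003, nat_lit 0x17e001, nat_lit 0x182801, nat_lit 0x105400e44003f90030500184405, nat_lit 0x60c003220000e403, nat_lit 0x61a003378002b403, nat_lit 0x44003110000ac03, nat_lit 0x6260039580184c03, nat_lit 0x6280039680185403, nat_lit 0x2a0031900011403, nat_lit 0xa60031a00036403, nat_lit 0x63c003518003dc03, nat_lit 0x190001, nat_lit 0x4e003210000d403, nat_lit 0x4c003210000cc03, nat_lit 0x13580090c0073b00324001aa005, nat_lit 0x95c00673002160010bc00c98007380034a80138008, nat_lit 0xce60042c0021780193000cde004aa0039980139008, nat_lit 0x1370009180073900328001ac805, nat_lit 0x6850039780197803, nat_lit 0x1318008f40073000330001a7805, nat_lit 0x664003a1001a1c03, nat_lit 0x664003538004ec03, nat_lit 0x666003a4801a2403, nat_lit 0x9c0033500018c03, nat_lit 0x66003390002c403, nat_lit 0x19e000d680074d0036f801b1c05, nat_lit 0x680003a380195c03, nat_lit 0x682003aa80196403, nat_lit 0x6860036c8005a403, nat_lit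 0x2f40012800066001a300013a000fb000aa80069c08, nat_lit 0xcc0034700022403, nat_lit 0x8c0034c00037403, nat_lit 0x1a6800cb8007440035e001b5805, nat_lit 0x675003a9801a7003, nat_lit 0x14a0035200066c03, nat_lit 0xd9400531002bb001c1c00dd4004f500250001aa008, nat_lit 0xe0e006ea0027a8012800093e006aa0027c8014f008, nat_lit 0xb0003560003ec03, nat_lit 0xb2e006ae002968013b800ecc006ca002988015d808, nat_lit 0x1b0800d340076200358001b4005, nat_lit 0x1b2001, nat_lit 0xe8003650004fc03, nat_lit 0x11c0036d0005ac03, nat_lit 0x1b8801, nat_lit 0x1960037400074403, nat_lit 0x1bc801, nat_lit 0x1740037c0004bc03, nat_lit 0x6e7003be001be803, nat_lit 0xdd0005d8002ea006fa000d200068c06, nat_lit 0x1ca0037f00062403, nat_lit 0x1c60038000079403, nat_lit 0xa5000574003810003b800130000580022a00126008, nat_lit 0x710003bc00168003, nat_lit 0x720003c200175003, nat_lit 0x7c000200000900100800824007240021b0011b808, nat_lit 0x1c9801, nat_lit 0x154400e50004b10022e8002bc05, nat_lit 0x1cd001, nat_lit 0x169400e68004fb002508003e405,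 nat_lit 0xa80007340027e801e4800a860059b003c100177808, nat_lit 0xd6e004fc0039a80150400f2e005df003c180162008, nat_lit 0x1cd800cfc0078c0025e00190005, nat_lit 0xa14007360003700189000c74004240031c00011c08, nat_lit 0xe6c0006e003120018e80084800638003160012e808, nat_lit 0x5330039e00046c03, nat_lit 0x1cf801, nat_lit 0xdc003a00002c403, nat_lit 0x175c00e9400533002778004f405, nat_lit 0xb0003a70003ec03, nat_lit 0x7a8003a80012cc03, nat_lit 0x758003d0001e6403, nat_lit 0xeb40017a0009400049c002ee001bb003c080076408, nat_lit 0xdc003ae0004a403, nat_lit 0x7b0003af0013a403, nat_lit 0x156003b500042403, nat_lit 0x141003b70016ec03, nat_lit 0x1dc000f0e0066a0031b801a4805, nat_lit 0x1dd001, nat_lit 0x1a5003bf00057803, nat_lit 0x7b900334801e1803, nat_lit 0x19e003c400074c03, nat_lit 0x1ce003c50007a403, nat_lit 0xf180003e0001000004800804004120021b0011b808, nat_lit 0x60e003c70010c403, nat_lit 0x77b003c8001ef003, nat_lit 0x5490031f001e4803, nat_lit 0x50a003cd0002d803, nat_lit 0x1e6800f3e0067e003e28012f005,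 nat_lit 0x7c003ce00143803, nat_lit 0x108003d20004c403, nat_lit 0x4a2003d500055c03, nat_lit 0x173800b0c007ac002dc8017bc05, nat_lit 0xf9600153000d180180000f5c001a6002d380055c08, nat_lit 0x17a003d80004c403, nat_lit 0x4da003d90005ec03, nat_lit 0x1d6800fb80012a003d900170005, nat_lit 0x7b4003ea001ac403, nat_lit 0x7bb003db001dcc03, nat_lit 0x518003dd0006cc03, nat_lit 0x529003df00045403, nat_lit 0x1f0001, nat_lit 0xfa4007e100325001f1800c9c000b50008580058408, nat_lit 0xb8003e600143803, nat_lit 0x5a8003ec0016a803, nat_lit 0x190003f10006cc03, nat_lit 0x5e9003f7001fa003, nat_lit 0x7b001, nat_lit 0x1ec003e2801fd003, nat_lit 0x1ec003c6001fd003, nat_lit 0x7b801, nat_lit 0x1ee000f60012f003, nat_lit 0x67e003fa001fe803, nat_lit 0x7c001, nat_lit 0x7d801, nat_lit 0x1f6003ff001f3803, nat_lit 0x7d8003dc007f6003fd00200805, nat_lit 0x79f003fe00200803, nat_lit 0x7fe0032000201003, nat_lit 0x201801014001ee003fc001fe805, nat_lit 0x7e001, nat_lit 0x1f8000f700200003, nat_lit 0x1f0003fd00203803,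 nat_lit 0x1fa000f70007cc03, nat_lit 0x1fa003fd8007cc03, nat_lit 0x1fc000f70007d403, nat_lit 0x7f801, nat_lit 0x80001, nat_lit 0x800003e0001ec0001f0011c805, nat_lit 0x100008dc007f40040000207005, nat_lit 0x202000f80007d403, nat_lit 0x208801, nat_lit 0x204004008007cc03, nat_lit 0x209801, nat_lit 0x81801, nat_lit 0x3e8007f5002380011c0008e0001ed000f98020a808, nat_lit 0x82801, nat_lit 0x20a004030020b803, nat_lit 0x20c000fb0007ec03, nat_lit 0x20c0040300083403, nat_lit 0x20c004050007ec03, nat_lit 0x20c004068007ec03, nat_lit 0x20e0040380083c03, nat_lit 0x20e004068007f403, nat_lit 0x20e004050007f403, nat_lit 0x84001, nat_lit 0x84801, nat_lit 0x850003f0007fe0003700130005, nat_lit 0x2160040880080c03, nat_lit 0x216000fc0007f403, nat_lit 0x8190041100211803, nat_lit 0x2180040900081403, nat_lit 0x218004078007ec03, nat_lit 0x8170041300213003, nat_lit 0x86801, nat_lit 0x2060040b00214803, nat_lit 0x3f8007fd0025f0012f80097c007ff000fd80214808, nat_lit 0x21c0040a80082403, nat_lit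 0x21c0040b80082403, nat_lit 0x87801, nat_lit 0x10ac001fc003ff0012f80097c007ff000fe80217008, nat_lit 0x88801, nat_lit 0x89001, nat_lit 0x448001fe000f8001fdc00ff0008000040d00218808, nat_lit 0x8800044a008650043180206c01002007f9000f88007fc09, nat_lit 0x43300088002, nat_lit 0x89801, nat_lit 0x226004348021a803, nat_lit 0x226000ff00207003, nat_lit 0x2000040d0021a803, nat_lit 0x10de0081f0023a8010f400ca600821004388021b008, nat_lit 0x218c0044e008720043580089405, nat_lit 0x228004120020b403, nat_lit 0x22a0041400082403, nat_lit 0x21e001, nat_lit 0x8b001, nat_lit 0x45800208000f9001fd4008e0007f4000f980082408, nat_lit 0x8b801, nat_lit 0x8c001, nat_lit 0x232004180008cc03, nat_lit 0x2320010500083c03, nat_lit 0x884004438020ec03, nat_lit 0x234004188008d403, nat_lit 0x2340041780083403, nat_lit 0x88a004468020d403, nat_lit 0x8d801, nat_lit 0x2360041980214803, nat_lit 0x2360041a80224003, nat_lit 0x2360041b80214803, nat_lit 0x41c008050028600143000a18008090010680224008, nat_lit 0x2380041a8008e403,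 nat_lit 0x2380041b80087403, nat_lit 0x8e801, nat_lit 0x11300020e0040400143000a18008090010780227808, nat_lit 0x8f001, nat_lit 0x23e0042080086403, nat_lit 0x23e0010800086403, nat_lit 0x90001, nat_lit 0x90801, nat_lit 0x90800424008120040d00218005, nat_lit 0x888003fc00810004210022a805, nat_lit 0x91001, nat_lit 0x48800212000fc0007dc010140080e004210022c008, nat_lit 0x8f00108200842004580022c80048800212000fc00203009, nat_lit 0x8a20045a80082c03, nat_lit 0x22e0045b00210403, nat_lit 0x23e0045b8008d403, nat_lit 0x45c00220402, nat_lit 0x45d00229402, nat_lit 0x45d00229c02, nat_lit 0x9000048a008b30045880210c0101e0080b001058008c409, nat_lit 0x4610022a402, nat_lit 0x46100090002, nat_lit 0x2460010900085c03, nat_lit 0x2460042180085c03, nat_lit 0x2480042180086403, nat_lit 0x2480010900086403, nat_lit 0x92801, nat_lit 0x24c004238008a403, nat_lit 0x8540043b00234803, nat_lit 0x24e004268008ac03, nat_lit 0x24e0042800087403, nat_lit 0x85b0043c00235803, nat_lit 0x94001, nat_lit 0x2500042c8021f003,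 nat_lit 0x4a00021c000fd001ff40097c007fc000fd80087408, nat_lit 0x94801, nat_lit 0x8d40042f80238803, nat_lit 0x95001, nat_lit 0x2540011100218803, nat_lit 0x2240043000239803, nat_lit 0x8ea0043a8023a003, nat_lit 0x95801, nat_lit 0x226004300023b803, nat_lit 0x2580043d0021f803, nat_lit 0x96801, nat_lit 0x9680046000830004410023d005, nat_lit 0x97001, nat_lit 0x4b8008c5001090007e0010180082e004410023e008, nat_lit 0x11f40025c00118000828010140080e004210022c008, nat_lit 0x116400244001090007e0010180082e004410023e008, nat_lit 0x25e0046380091c03, nat_lit 0x25e001180008cc03, nat_lit 0x25e004418008cc03, nat_lit 0x2600046380092403, nat_lit 0x260004418008d403, nat_lit 0x260001180008d403, nat_lit 0x98801, nat_lit 0x2640044280099403, nat_lit 0x2640044480226403, nat_lit 0x90e0048880225403, nat_lit 0x99801, nat_lit 0x268004458009a403, nat_lit 0x268004478008e403, nat_lit 0x9160048c80226c03, nat_lit 0x9a801, nat_lit 0x26a0044d80247003, nat_lit 0x4d4002380010600201400a1800804001068008e408,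 nat_lit 0x1140008910010600083c01132008910011c80247008, nat_lit 0x9b001, nat_lit 0x9130045080249003, nat_lit 0x9b801, nat_lit 0x9c001, nat_lit 0x270001210022c003, nat_lit 0x272004590009cc03, nat_lit 0x2720012200092403, nat_lit 0x125c00931004668022f80111e008390042700233808, nat_lit 0x274004598009d403, nat_lit 0x2740045880091c03, nat_lit 0x1268009370048000240c011120083f0042400232808, nat_lit 0x2760046480093403, nat_lit 0x2780046680093c03, nat_lit 0x2780046780093c03, nat_lit 0x9e801, nat_lit 0x9e8004940084a0042e00238805, nat_lit 0x9480043c008480046800250005, nat_lit 0x9f001, nat_lit 0x27e0046b80096403, nat_lit 0x13f00093800430002170012680239406, nat_lit 0x8df0047900252003, nat_lit 0xa0001, nat_lit 0x280004720024e803, nat_lit 0xa0801, nat_lit 0x2820047600254803, nat_lit 0xa08011d4008640047400254805, nat_lit 0x954004ab000a08004a8008ee004780021c001040000400023500189000c7400450003100018580082000010001fc00102000c300044200240001a28010880021400409002068010c400875004740025481f,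 nat_lit 0x24ac0115a0025500141802564012a6008e7004578024a009, nat_lit 0x4ad0024b402, nat_lit 0x47e802570004dc00242004620023d006, nat_lit 0x4af0023f802, nat_lit 0x4af0023f402, nat_lit 0x284004b18009cc03, nat_lit 0x2840012d00097c03, nat_lit 0x2840047b000a1403, nat_lit 0x286004b08009d403, nat_lit 0x2860047a80098403, nat_lit 0x120a008870041e80212c01190009360049a8025a808, nat_lit 0x288004808009dc03, nat_lit 0x2880048180099403, nat_lit 0x2880048280099403, nat_lit 0xa2801, nat_lit 0x266004840025d803, nat_lit 0x28c004838009e403, nat_lit 0x28c004848009a403, nat_lit 0x28c004858009a403, nat_lit 0xa3801, nat_lit 0xa38004c4008890044f00249005, nat_lit 0xa4001226002360044700245005, nat_lit 0xa4801, nat_lit 0x2940048b800a5403, nat_lit 0x2940048d80248003, nat_lit 0x14a0009a000468002330013280249c06, nat_lit 0x988004c580247803, nat_lit 0x296004930025c803, nat_lit 0x951004b800264003, nat_lit 0x298004998009e403, nat_lit 0x29a0049a800a6c03, nat_lit 0x29a0049c8009dc03, nat_lit 0xa7001,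 nat_lit 0x29c0049f80251803, nat_lit 0xa7801, nat_lit 0x29e004a200253803, nat_lit 0xa80004f8008d90046e00253405, nat_lit 0x2a2004b2800a6403, nat_lit 0x2a2004b3800a2403, nat_lit 0x2a2004b4800a8c03, nat_lit 0x12fe009190044e80236c0127800994004d20026a408, nat_lit 0xa9001, nat_lit 0x28a004b60026b003, nat_lit 0x2a6004b5800a6c03, nat_lit 0x2a6004b6800a3403, nat_lit 0x12ea009110044b8023540127400998004cb8026c008, nat_lit 0xaa001, nat_lit 0x2a8004bd80266803, nat_lit 0x2a8004bf80261803, nat_lit 0x292004be0026d803, nat_lit 0x2aa004be800a5403, nat_lit 0xab001, nat_lit 0x296004c100270003, nat_lit 0x9c2004c900268003, nat_lit 0xab801, nat_lit 0xab800524009190048e00263805, nat_lit 0x262c004d40091a004c300271805, nat_lit 0xac001, nat_lit 0x2b0004c880269803, nat_lit 0x2aa004d580273803, nat_lit 0xac801, nat_lit 0x2a8004d900274803, nat_lit 0x2b4004e100273003, nat_lit 0x56a009d7004e80026fc01312009cb004e38026f4013aa009d3004da0025d40121c00291004c28025e40135e009ad004b7002414011080026300147800ab40056a009d7004e80026fc01312009cb004e38026f420,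 nat_lit 0x9c4004ec8026e403, nat_lit 0x9ba004ec00270403, nat_lit 0x99c004ed00267c03, nat_lit 0x2ae004ee80260403, nat_lit 0x982004ee00261c03, nat_lit 0x2a0004ef80250403, nat_lit 0x942004ef00251c03, nat_lit 0x9c8004f080243403, nat_lit 0x924004f180246c03, nat_lit 0x4d2009e2004c60027a404, nat_lit 0x124e009e30014a8027a404, nat_lit 0x9a2004f280234403, nat_lit 0x8e2004f380236803, nat_lit 0x49e009e6004a50027c404, nat_lit 0x98e004f480221c03, nat_lit 0x1142009eb004900027dc04, nat_lit 0x13ec00922004f58008e004, nat_lit 0x13dc00264004f60008d004, nat_lit 0x27d001180009ed004fe8022f005, nat_lit 0x1118009ed004fe80082804, nat_lit 0x129a009f1004ff80203c04, nat_lit 0x10be009f30047000280c04, nat_lit 0x2470013ee009fb0050080201405, nat_lit 0x1400009fa00107002800013f4009f60049080281c08, nat_lit 0xa04004490027e4013f600a0100504801f3c07, nat_lit 0x7fa005058012f403, nat_lit 0xf680283402, nat_lit 0x67e005070012f003, nat_lit 0x100008dc00a0e0001f0011c805, nat_lit 0x6dc0029b001b3000eec006e400052000178000600001a0021000109000c700047e0032a0018a80083c000160020a0010d8008dc00a0e0025e0019000016c0050e003f6001f4000a24007bf003640015681f,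 nat_lit 0x1c00097400a100003700130005, nat_lit 0x72005090001d403, nat_lit 0x1660050a00048c03, nat_lit 0x4d000fce00a140036e0014e805, nat_lit 0xba0050b0002f403, nat_lit 0x6bb0050c00131403, nat_lit 0x286801, nat_lit 0x10e00510001a0403, nat_lit 0x1b0005110005c403, nat_lit 0x4400143c00554005120016c005, nat_lit 0x5bc005130017b403, nat_lit 0xfc8006c2003b08028a000eae0056c002e10017d808, nat_lit 0x1c7001458007f0002ec8017f405, nat_lit 0xad801, nat_lit 0xae001, nat_lit 0x2b80015b001db403, nat_lit 0x769005180028c803, nat_lit 0x2b6002cb8028d003, nat_lit 0xa36003838028c003, nat_lit 0xae801, nat_lit 0x6ed005180028f003, nat_lit 0xaf001, nat_lit 0xb0801, nat_lit 0x2c400519800afc03, nat_lit 0x2c40051c000afc03, nat_lit 0x2c40051d800afc03, nat_lit 0x2c60051d800b0403, nat_lit 0x2c60051c000b0403, nat_lit 0xb2001, nat_lit 0x2bc0051e00293803, nat_lit 0x2ca0015d000afc03, nat_lit 0xb3001, nat_lit 0xb3801, nat_lit 0xb4001, nat_lit 0xb4000578002b60037500167005, nat_lit 0x53000a7800a300052000296005,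 nat_lit 0x2d20015e000b0403, nat_lit 0x297801, nat_lit 0x2d400520800afc03, nat_lit 0x298801, nat_lit 0xb5801, nat_lit 0x5b0002be005188005180143800185000e48007a408, nat_lit 0x29a001, nat_lit 0x580002bf0016c8029a8003d0001c80051b800b1c08, nat_lit 0x29b001, nat_lit 0xb7001, nat_lit 0xb7801, nat_lit 0xb780058400a360035700174005, nat_lit 0x2e000161000b1c03, nat_lit 0x29d801, nat_lit 0x2e200521800b1403, nat_lit 0x29e801, nat_lit 0xb9001, nat_lit 0x2e40052380299803, nat_lit 0x2d6005220029f803, nat_lit 0x2d6005240029f803, nat_lit 0x5cc002c4001638029bc00580002b6000cc80074c08, nat_lit 0x2e800525800b6c03, nat_lit 0x2e800526800b6c03, nat_lit 0xba80059000a3e0037480176805, nat_lit 0x2ec0052980299803, nat_lit 0xbb801, nat_lit 0x2f00052a800b5403, nat_lit 0x2f000166000b5403, nat_lit 0xbc801, nat_lit 0xbd001, nat_lit 0xbd801, nat_lit 0x5ec002ce0015e000ae40147000a400052b002a6808, nat_lit 0xbb8014aa00a560054d002a70005ec002ce0015e0028e809, nat_lit 0xa900054f800b0c03, nat_lit 0x2f000550800b8c03,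 nat_lit 0x551002a4c02, nat_lit 0x551002a5402, nat_lit 0xbc8005ee00a9d0054d80295c0148200a3900161800b7409, nat_lit 0x554002a5c02, nat_lit 0x554000bc802, nat_lit 0xbe001, nat_lit 0x2f80016700296003, nat_lit 0x2d00052b002ab803, nat_lit 0x2fa0052b800b4c03, nat_lit 0x2fc0052b800b5403, nat_lit 0x2fc00167000b5403, nat_lit 0x2fe00530000b6c03, nat_lit 0xc0001, nat_lit 0x30200532000b6403, nat_lit 0x2af801, nat_lit 0xc1001, nat_lit 0xc2801, nat_lit 0xc3001, nat_lit 0x61800aab00167000af00147400a4200538002b1808, nat_lit 0x15900030c0016e000b080147000a400052b002a6808, nat_lit 0x30e00556802ab803, nat_lit 0x30e0016e0029c803, nat_lit 0x31000556800bec03, nat_lit 0x3100016e000b8403, nat_lit 0x3120053c000ba403, nat_lit 0x2b5001, nat_lit 0x31400553800c0c03, nat_lit 0x3140053e000b9c03, nat_lit 0xc5801, nat_lit 0x31800540800c1c03, nat_lit 0xc7001, nat_lit 0x30a00544002b8003, nat_lit 0xc7801, nat_lit 0x30400547002b9003, nat_lit 0x32000547800c1c03, nat_lit 0xc8801, nat_lit 0x3220017a002a6803,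 nat_lit 0x2f60054c002ba803, nat_lit 0x3240017a002ab803, nat_lit 0x3260054c800bf403, nat_lit 0x3260017a000bf403, nat_lit 0xca001, nat_lit 0x3280054e002bd803, nat_lit 0x32a0054e000cac03, nat_lit 0x32a0017b000bf403, nat_lit 0x15f400afd0055b802a90014f800a4900531002ae008, nat_lit 0x32c0054e800cb403, nat_lit 0x32c0054d800bec03, nat_lit 0x160000b0300568002b4c014f000a4d0052f002ad008, nat_lit 0xcb801, nat_lit 0x3300055a800bfc03, nat_lit 0xcc801, nat_lit 0x3320055c802af003, nat_lit 0x3000055b002c2803, nat_lit 0x3340055b800c0c03, nat_lit 0x3340055c800c0c03, nat_lit 0xcd801, nat_lit 0xc10005ac00a650055e002c5005, nat_lit 0xce001, nat_lit 0x7a800f8600a6800560802c6005, nat_lit 0xce801, nat_lit 0xcf001, nat_lit 0x33e00182000c2403, nat_lit 0x2c8001, nat_lit 0x34000561800c1c03, nat_lit 0x2c9001, nat_lit 0x6840030600533800af80056c00199000e9801fc808, nat_lit 0x688003080016b000af80058200a6d00174802b8008, nat_lit 0xd1801, nat_lit 0x69000ac50016d0029b80058c002c500172800c6c08, nat_lit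 0x6940030a0016d000b000146200146000a480066c08, nat_lit 0xd3001, nat_lit 0x34c00565802bd803, nat_lit 0x34c00564002cc803, nat_lit 0xd3801, nat_lit 0x35000568800cc403, nat_lit 0x35000569800c4c03, nat_lit 0x3520056c802c6003, nat_lit 0xd48015b600a87003f48017f805, nat_lit 0x3540018b000c6c03, nat_lit 0x2d0801, nat_lit 0x3560056e800c6403, nat_lit 0x2d1801, nat_lit 0x3580056f800d0c03, nat_lit 0xd6801, nat_lit 0x35c00573000d0403, nat_lit 0xae900592002d3803, nat_lit 0x35e00574800d0c03, nat_lit 0x71600594002d4803, nat_lit 0xd8001, nat_lit 0xd80015dc00a9c00576002d5805, nat_lit 0xd8801, nat_lit 0x36200577002bd803, nat_lit 0x32800576002d6803, nat_lit 0x36400577000cac03, nat_lit 0x36400576800cac03, nat_lit 0x36600576800cb403, nat_lit 0xda001, nat_lit 0x32e00578002d9803, nat_lit 0x36a00579800cd403, nat_lit 0x36a0057a800cd403, nat_lit 0xdb000650002f600557002c1805, nat_lit 0x36e0057c000dbc03, nat_lit 0x3700057c800dc403, nat_lit 0xdc801, nat_lit 0x3740057f800cd403, nat_lit 0x37600580800ddc03,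 nat_lit 0x37600582800cc403, nat_lit 0x16f000b7b0059d002cf4015ac00a8b0055d002c2008, nat_lit 0xde001, nat_lit 0xde801, nat_lit 0xe26006f1003ca801678014b400ab000583002e0008, nat_lit 0x2dfc0170000b8200382801e9c00ba400a7400567002ce009, nat_lit 0x5c2000de002, nat_lit 0xdf001, nat_lit 0xdf801, nat_lit 0x37e00589802c6003, nat_lit 0x33800588002e2803, nat_lit 0xe0001, nat_lit 0x3820058e800cfc03, nat_lit 0x3840058e800d0403, nat_lit 0xe1801, nat_lit 0x70c0033c00182002a0c0150800ac20058f002e5808, nat_lit 0xe000163a00b1e005cb002e600070c0033c00182002a0009, nat_lit 0xb90005cd800c5c03, nat_lit 0x382005ce800d5403, nat_lit 0x384005ce800d5c03, nat_lit 0x5cf002e4c02, nat_lit 0x5d0002e5402, nat_lit 0x38800591000d1403, nat_lit 0x2e9801, nat_lit 0xba800595802d3003, nat_lit 0x38a00593000d0c03, nat_lit 0xe3801, nat_lit 0x390001a3000d2c03, nat_lit 0x2ec001, nat_lit 0x39200596800d2403, nat_lit 0x2ed001, nat_lit 0xbb600597802d1403, nat_lit 0x388005d1002ee003, nat_lit 0x71800393005dd002eac04,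 nat_lit 0x5de000e3002, nat_lit 0xe5001, nat_lit 0xd380061c00ac600599002f0005, nat_lit 0xbc2005c3802db803, nat_lit 0x3960059a800dbc03, nat_lit 0x3960059b000e5c03, nat_lit 0xe6001, nat_lit 0x7300034e00566802ac8014b8006cf003e480178808, nat_lit 0x2ec80166200764002f0002f3005, nat_lit 0xbc2005e5002f3803, nat_lit 0xbaf001c8802f4003, nat_lit 0x396005e0002f4803, nat_lit 0x2f5001, nat_lit 0x39a005d2800e2c03, nat_lit 0x39a005a4000d6403, nat_lit 0x2f6801, nat_lit 0xe7001, nat_lit 0x7380035a00571002cb00175c00bd4005e3802dc408, nat_lit 0x7380035a00571002cb00175c00bd4005e4802f5808, nat_lit 0x17be00bbf00596802b8c006b60039d005f0802dc008, nat_lit 0xbc4005e9002f8803, nat_lit 0x39e005ef002f9803, nat_lit 0x39e001ce802f9803, nat_lit 0x1cf002ea8007100033e001a0800e2c06, nat_lit 0x3a0005a7800e2c03, nat_lit 0x3a0005a8000d7c03, nat_lit 0xe8801, nat_lit 0x3a2005ac002fc803, nat_lit 0xe9001, nat_lit 0x3a4005ac002fd803, nat_lit 0x3a4001b0002d6803, nat_lit 0x362005ab002fd803, nat_lit 0x3a6005ac000e9c03,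 nat_lit 0x3a6001b0000d9403, nat_lit 0x3a6005ab800d9403, nat_lit 0xea001, nat_lit 0xda00064800aea005ad00301005, nat_lit 0x3aa005ae800dbc03, nat_lit 0x3ac005ae800dc403, nat_lit 0x3ac005af000dc403, nat_lit 0xeb801, nat_lit 0x3ae005b0802dd003, nat_lit 0x3b0005b1800dd403, nat_lit 0xb6d005bb00304803, nat_lit 0x3b2005b2800ddc03, nat_lit 0xed001, nat_lit 0x37e005b500306003, nat_lit 0x3b6005f5002fb403, nat_lit 0x3b6005f4002fb403, nat_lit 0x3b6001b6000dc403, nat_lit 0x183e00bd8005ee002d2c0175800c1c00610802dcc08, nat_lit 0xee001, nat_lit 0x3b8005b900309003, nat_lit 0xee8006e400aff00585002e2005, nat_lit 0xef001, nat_lit 0xef8017e200b54000ed001c6005, nat_lit 0xf0001, nat_lit 0x3c0001d1002fd8017f000bfc00602003018016d000b80005c100073000b9e007d70051500181000e1e006fd003ef001d6800fb6007eb000b0001bd800bd40070c00616000ef8017de00c1e006118030901f, nat_lit 0x30bc017ea003c10061880309c05, nat_lit 0xc0d006120030c003, nat_lit 0xc0b001dc8030c803, nat_lit 0xf0801, nat_lit 0x3c2006170030d003,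 nat_lit 0xbfb001d68030e803, nat_lit 0x3c4005f9800e9c03, nat_lit 0xf1801, nat_lit 0x3c6005fc00310003, nat_lit 0x3c8005fd800eac03, nat_lit 0x3ca0060080303803, nat_lit 0x3cc005ff800f3403, nat_lit 0x3cc00600800ec403, nat_lit 0x3cc00601800ec403, nat_lit 0xc41005fd802d74015ee00a9b0052b802944005d600a8d0037a8016b400a96007a200271001a800024a00173000dc80078400e3e001e3005178017f0003d600b1b005c780306c0183200c15006250031201f, nat_lit 0xc420062780312403, nat_lit 0x31400078c003a4005f90030e005, nat_lit 0x78c00c3d00629000f3004, nat_lit 0xc3f0062a00310403, nat_lit 0xc500062a800f2c03, nat_lit 0x3c80062b000f1003, nat_lit 0xc4c0062c80311c03, nat_lit 0x3c00062d00311403, nat_lit 0xc120062e80304403, nat_lit 0x62e000ec002, nat_lit 0x62f0030d802, nat_lit 0x3ba00630002ddc03, nat_lit 0x37e006330030a403, nat_lit 0x3bc00634002e3403, nat_lit 0x6350030ac02, nat_lit 0x635000ef002, nat_lit 0xec8006cc003650060700318c006c800363001d680319009, nat_lit 0xc160063880302403, nat_lit 0xbe500639002df403,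 nat_lit 0xbde0063a802c2403, nat_lit 0xbab0063b800bf803, nat_lit 0x3890063c800b4803, nat_lit 0x33f0063d800b5403, nat_lit 0xb160063e800c0403, nat_lit 0x63f000cd802, nat_lit 0x31b40171200b0d00640002c3c006fa00c6e0059f002d0409, nat_lit 0xb18006418017fc03, nat_lit 0xac100642801fa003, nat_lit 0x2d90064380074803, nat_lit 0x2bf0064480066003, nat_lit 0x15b80322c02]
theorem st0 : band (steps F IV RT base st0_l 487) (Nat.beq (Nat.add 487 (llen st0_l)) 1607) = true := by decide +kernel

theorem rot1_1 : T.rot 1 [7] (sel (ones 819) ip1 1) = true := by decide +kernel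

theorem rot1_1r : band (Rule.ok (2 * 0) EX RL ⟨1 :: [7], [], 20, false⟩) (lall (memL L) [7]) = true := by decide +kernel

theorem rot1_2 : T.rot 1 [1] (sel (ones 819) ip1 2) = true := by decide +kernel

theorem rot1_2r : band (Rule.ok (2 * 0) EX RL ⟨1 :: [1], [], 0, true⟩) (lall (memL L) [1]) = true := by decide +kernel

theorem rot1_3 : T.rot 1 [5, 1, 5] (sel (ones 819) ip1 3) = true := by decide +kernel

theorem rot1_3r : band (Rule.ok (2 * 0) EX RL ⟨1 :: [5, 1, 5], [0], 6, true⟩) (lall (memL L) [5, 1, 5]) = true := by decide +kernel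

theorem rot1_4 : T.rot 1 [6, 7, 12] (sel (ones 819) ip1 4) = true := by decide +kernel

theorem rot1_4r : band (Rule.ok (2 * 0) EX RL ⟨1 :: [6, 7, 12], [], 15, true⟩) (lall (memL L) [6, 7, 12]) = true := by decide +kernel

theorem rot1_5 : T.rot 1 [12, 7, 6] (sel (ones 819) ip1 5) = true := by decide +kernel

theorem rot1_5r : band (Rule.ok (2 * 0) EX RL ⟨1 :: [12, 7, 6], [11], 15, false⟩) (lall (memL L) [12, 7, 6]) = true := by decide +kernel

theorem rot1_6 : T.rot 1 [2, 1, 2, 1, 2] (sel (ones 819) ip1 6) = true := by decide +kernel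

theorem rot1_6r : band (Rule.ok (2 * 0) EX RL ⟨1 :: [2, 1, 2, 1, 2], [0], 5, true⟩) (lall (memL L) [2, 1, 2, 1, 2]) = true := by decide +kernel

theorem rot1_7 : T.rot 1 [9, 10, 9, 10, 9, 10, 9, 10] (sel (ones 819) ip1 7) = true := by decide +kernel

theorem rot1_7r : band (Rule.ok (2 * 0) EX RL ⟨1 :: [9, 10, 9, 10, 9, 10, 9, 10], [0], 10, true⟩) (lall (memL L) [9, 10, 9, 10, 9, 10, 9, 10]) = true := by decide +kernel

theorem cov1 : T.cover 1 [(sel (ones 819) ip1 1), (sel (ones 819) ip1 2), (sel (ones 819) ip1 3), (sel (ones 819) ip1 4), (sel (ones 819) ip1 5), (sel (ones 819) ip1 6), (sel (ones 819) ip1 7), 1] = true := by decide +kernel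

theorem tl1 : T.treeLt 10 1 = true := by decide +kernel

theorem rot2_1 : T.rot 2 [8] (sel (ones 819) ip2 1) = true := by decide +kernel

theorem rot2_1r : band (Rule.ok (2 * 0) EX RL ⟨2 :: [8], [], 20, false⟩) (lall (memL L) [8]) = true := by decide +kernel

theorem rot2_2 : T.rot 2 [2] (sel (ones 819) ip2 2) = true := by decide +kernel

theorem rot2_2r : band (Rule.ok (2 * 0) EX RL ⟨2 :: [2], [], 1, true⟩) (lall (memL L) [2]) = true := by decide +kernel

theorem rot2_3 : T.rot 2 [4, 2, 4] (sel (ones 819) ip2 3) = true := by decide +kernel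

theorem rot2_3r : band (Rule.ok (2 * 0) EX RL ⟨2 :: [4, 2, 4], [2], 8, true⟩) (lall (memL L) [4, 2, 4]) = true := by decide +kernel

theorem rot2_4 : T.rot 2 [5, 2, 5] (sel (ones 819) ip2 4) = true := by decide +kernel

theorem rot2_4r : band (Rule.ok (2 * 0) EX RL ⟨2 :: [5, 2, 5], [2], 9, true⟩) (lall (memL L) [5, 2, 5]) = true := by decide +kernel

theorem rot2_5 : T.rot 2 [6, 8, 12] (sel (ones 819) ip2 5) = true := by decide +kernel

theorem rot2_5r : band (Rule.ok (2 * 0) EX RL ⟨2 :: [6, 8, 12], [], 16, true⟩) (lall (memL L) [6, 8, 12]) = true := by decide +kernel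

theorem rot2_6 : T.rot 2 [12, 8, 6] (sel (ones 819) ip2 6) = true := by decide +kernel

theorem rot2_6r : band (Rule.ok (2 * 0) EX RL ⟨2 :: [12, 8, 6], [11], 16, false⟩) (lall (memL L) [12, 8, 6]) = true := by decide +kernel

theorem rot2_7 : T.rot 2 [1, 2, 1, 2, 1] (sel (ones 819) ip2 7) = true := by decide +kernel

theorem rot2_7r : band (Rule.ok (2 * 0) EX RL ⟨2 :: [1, 2, 1, 2, 1], [], 5, true⟩) (lall (memL L) [1, 2, 1, 2, 1]) = true := by decide +kernel

theorem rot2_8 : T.rot 2 [3, 2, 3, 2, 3] (sel (ones 819) ip2 8) = true := by decide +kernel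

theorem rot2_8r : band (Rule.ok (2 * 0) EX RL ⟨2 :: [3, 2, 3, 2, 3], [2], 7, true⟩) (lall (memL L) [3, 2, 3, 2, 3]) = true := by decide +kernel

theorem rot2_9 : T.rot 2 [5, 4, 3, 2, 5, 4, 3, 2, 5, 4, 3, 2, 5, 4, 3, 2, 5, 4, 3, 2, 5, 4, 3, 2, 5, 4, 3, 2, 5, 4, 3] (sel (ones 819) ip2 9) = true := by decide +kernel

theorem rot2_9r : band (Rule.ok (2 * 0) EX RL ⟨2 :: [5, 4, 3, 2, 5, 4, 3, 2, 5, 4, 3, 2, 5, 4, 3, 2, 5, 4, 3, 2, 5, 4, 3, 2, 5, 4, 3, 2, 5, 4, 3], [2], 13, true⟩) (lall (memL L) [5, 4, 3, 2, 5, 4, 3, 2, 5, 4, 3, 2, 5, 4, 3, 2, 5, 4, 3, 2, 5, 4, 3, 2, 5, 4, 3, 2, 5, 4, 3]) = true := by decide +kernel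

theorem cov2 : T.cover 2 [(sel (ones 819) ip2 1), (sel (ones 819) ip2 2), (sel (ones 819) ip2 3), (sel (ones 819) ip2 4), (sel (ones 819) ip2 5), (sel (ones 819) ip2 6), (sel (ones 819) ip2 7), (sel (ones 819) ip2 8), (sel (ones 819) ip2 9)] = true := by decide +kernel

theorem tl2 : T.treeLt 10 2 = true := by decide +kernel

theorem rot3_1 : T.rot 3 [9] (sel (ones 819) ip3 1) = true := by decide +kernel

theorem rot3_1r : band (Rule.ok (2 * 0) EX RL ⟨3 :: [9], [], 20, false⟩) (lall (memL L) [9]) = true := by decide +kernel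

theorem rot3_2 : T.rot 3 [3] (sel (ones 819) ip3 2) = true := by decide +kernel

theorem rot3_2r : band (Rule.ok (2 * 0) EX RL ⟨3 :: [3], [], 2, true⟩) (lall (memL L) [3]) = true := by decide +kernel

theorem rot3_3 : T.rot 3 [5, 3, 5] (sel (ones 819) ip3 3) = true := by decide +kernel

theorem rot3_3r : band (Rule.ok (2 * 0) EX RL ⟨3 :: [5, 3, 5], [4], 11, true⟩) (lall (memL L) [5, 3, 5]) = true := by decide +kernel

theorem rot3_4 : T.rot 3 [6, 9, 12] (sel (ones 819) ip3 4) = true := by decide +kernel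

theorem rot3_4r : band (Rule.ok (2 * 0) EX RL ⟨3 :: [6, 9, 12], [], 17, true⟩) (lall (memL L) [6, 9, 12]) = true := by decide +kernel

theorem rot3_5 : T.rot 3 [12, 9, 6] (sel (ones 819) ip3 5) = true := by decide +kernel

theorem rot3_5r : band (Rule.ok (2 * 0) EX RL ⟨3 :: [12, 9, 6], [11], 17, false⟩) (lall (memL L) [12, 9, 6]) = true := by decide +kernel

theorem rot3_6 : T.rot 3 [2, 3, 2, 3, 2] (sel (ones 819) ip3 6) = true := by decide +kernel

theorem rot3_6r : band (Rule.ok (2 * 0) EX RL ⟨3 :: [2, 3, 2, 3, 2], [], 7, true⟩) (lall (memL L) [2, 3, 2, 3, 2]) = true := by decide +kernel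

theorem rot3_7 : T.rot 3 [4, 3, 4, 3, 4, 3, 7, 4] (sel (ones 819) ip3 7) = true := by decide +kernel

theorem rot3_7r : band (Rule.ok (2 * 0) EX RL ⟨3 :: [4, 3, 4, 3, 4, 3, 7, 4], [0, 7], 10, false⟩) (lall (memL L) [4, 3, 4, 3, 4, 3, 7, 4]) = true := by decide +kernel

theorem rot3_8 : T.rot 3 [4, 3, 4, 3, 7, 4, 3, 4] (sel (ones 819) ip3 8) = true := by decide +kernel

theorem rot3_8r : band (Rule.ok (2 * 0) EX RL ⟨3 :: [4, 3, 4, 3, 7, 4, 3, 4], [0, 7, 5, 7], 10, false⟩) (lall (memL L) [4, 3, 4, 3, 7, 4, 3, 4]) = true := by decide +kernel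

theorem rot3_9 : T.rot 3 [4, 3, 7, 4, 3, 4, 3, 4] (sel (ones 819) ip3 9) = true := by decide +kernel

theorem rot3_9r : band (Rule.ok (2 * 0) EX RL ⟨3 :: [4, 3, 7, 4, 3, 4, 3, 4], [4, 6, 4], 10, false⟩) (lall (memL L) [4, 3, 7, 4, 3, 4, 3, 4]) = true := by decide +kernel

theorem rot3_10 : T.rot 3 [7, 4, 3, 4, 3, 4, 3, 4] (sel (ones 819) ip3 10) = true := by decide +kernel

theorem rot3_10r : band (Rule.ok (2 * 0) EX RL ⟨3 :: [7, 4, 3, 4, 3, 4, 3, 4], [4], 10, false⟩) (lall (memL L) [7, 4, 3, 4, 3, 4, 3, 4]) = true := by decide +kernel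

theorem rot3_11 : T.rot 3 [2, 5, 4, 3, 2, 5, 4, 3, 2, 5, 4, 3, 2, 5, 4, 3, 2, 5, 4, 3, 2, 5, 4, 3, 2, 5, 4, 3, 2, 5, 4] (sel (ones 819) ip3 11) = true := by decide +kernel

theorem rot3_11r : band (Rule.ok (2 * 0) EX RL ⟨3 :: [2, 5, 4, 3, 2, 5, 4, 3, 2, 5, 4, 3, 2, 5, 4, 3, 2, 5, 4, 3, 2, 5, 4, 3, 2, 5, 4, 3, 2, 5, 4], [2, 4], 13, true⟩) (lall (memL L) [2, 5, 4, 3, 2, 5, 4, 3, 2, 5, 4, 3, 2, 5, 4, 3, 2, 5, 4, 3, 2, 5, 4, 3, 2, 5, 4, 3, 2, 5, 4]) = true := by decide +kernel

theorem cov3 : T.cover 3 [(sel (ones 819) ip3 1), (sel (ones 819) ip3 2), (sel (ones 819) ip3 3), (sel (ones 819) ip3 4), (sel (ones 819) ip3 5), (sel (ones 819) ip3 6), (sel (ones 819) ip3 7), (sel (ones 819) ip3 8), (sel (ones 819) ip3 9), (sel (ones 819) ip3 10), (sel (ones 819) ip3 11), 1] = true := by decide +kernel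

theorem tl3 : T.treeLt 10 3 = true := by decide +kernel

theorem rot4_1 : T.rot 4 [10] (sel (ones 819) ip4 1) = true := by decide +kernel

theorem rot4_1r : band (Rule.ok (2 * 0) EX RL ⟨4 :: [10], [], 20, false⟩) (lall (memL L) [10]) = true := by decide +kernel

theorem rot4_2 : T.rot 4 [4] (sel (ones 819) ip4 2) = true := by decide +kernel

theorem rot4_2r : band (Rule.ok (2 * 0) EX RL ⟨4 :: [4], [], 3, true⟩) (lall (memL L) [4]) = true := by decide +kernel

theorem rot4_3 : T.rot 4 [2, 4, 2] (sel (ones 819) ip4 3) = true := by decide +kernel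

theorem rot4_3r : band (Rule.ok (2 * 0) EX RL ⟨4 :: [2, 4, 2], [], 8, true⟩) (lall (memL L) [2, 4, 2]) = true := by decide +kernel

theorem rot4_4 : T.rot 4 [6, 4, 6] (sel (ones 819) ip4 4) = true := by decide +kernel

theorem rot4_4r : band (Rule.ok (2 * 0) EX RL ⟨4 :: [6, 4, 6], [], 18, true⟩) (lall (memL L) [6, 4, 6]) = true := by decide +kernel

theorem rot4_5 : T.rot 4 [5, 4, 5, 4, 5] (sel (ones 819) ip4 5) = true := by decide +kernel

theorem rot4_5r : band (Rule.ok (2 * 0) EX RL ⟨4 :: [5, 4, 5, 4, 5], [6], 12, true⟩) (lall (memL L) [5, 4, 5, 4, 5]) = true := by decide +kernel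

theorem rot4_6 : T.rot 4 [3, 4, 3, 4, 3, 4, 3, 7] (sel (ones 819) ip4 6) = true := by decide +kernel

theorem rot4_6r : band (Rule.ok (2 * 0) EX RL ⟨4 :: [3, 4, 3, 4, 3, 4, 3, 7], [0], 10, false⟩) (lall (memL L) [3, 4, 3, 4, 3, 4, 3, 7]) = true := by decide +kernel

theorem rot4_7 : T.rot 4 [3, 4, 3, 4, 3, 7, 4, 3] (sel (ones 819) ip4 7) = true := by decide +kernel

theorem rot4_7r : band (Rule.ok (2 * 0) EX RL ⟨4 :: [3, 4, 3, 4, 3, 7, 4, 3], [0, 7, 5], 10, false⟩) (lall (memL L) [3, 4, 3, 4, 3, 7, 4, 3]) = true := by decide +kernel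

theorem rot4_8 : T.rot 4 [3, 4, 3, 7, 4, 3, 4, 3] (sel (ones 819) ip4 8) = true := by decide +kernel

theorem rot4_8r : band (Rule.ok (2 * 0) EX RL ⟨4 :: [3, 4, 3, 7, 4, 3, 4, 3], [4, 6, 4, 6], 10, false⟩) (lall (memL L) [3, 4, 3, 7, 4, 3, 4, 3]) = true := by decide +kernel

theorem rot4_9 : T.rot 4 [3, 7, 4, 3, 4, 3, 4, 3] (sel (ones 819) ip4 9) = true := by decide +kernel

theorem rot4_9r : band (Rule.ok (2 * 0) EX RL ⟨4 :: [3, 7, 4, 3, 4, 3, 4, 3], [4, 6], 10, false⟩) (lall (memL L) [3, 7, 4, 3, 4, 3, 4, 3]) = true := by decide +kernel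

theorem rot4_10 : T.rot 4 [3, 2, 5, 4, 3, 2, 5, 4, 3, 2, 5, 4, 3, 2, 5, 4, 3, 2, 5, 4, 3, 2, 5, 4, 3, 2, 5, 4, 3, 2, 5] (sel (ones 819) ip4 10) = true := by decide +kernel

theorem rot4_10r : band (Rule.ok (2 * 0) EX RL ⟨4 :: [3, 2, 5, 4, 3, 2, 5, 4, 3, 2, 5, 4, 3, 2, 5, 4, 3, 2, 5, 4, 3, 2, 5, 4, 3, 2, 5, 4, 3, 2, 5], [9], 13, true⟩) (lall (memL L) [3, 2, 5, 4, 3, 2, 5, 4, 3, 2, 5, 4, 3, 2, 5, 4, 3, 2, 5, 4, 3, 2, 5, 4, 3, 2, 5, 4, 3, 2, 5]) = true := by decide +kernel

theorem cov4 : T.cover 4 [(sel (ones 819) ip4 1), (sel (ones 819) ip4 2), (sel (ones 819) ip4 3), (sel (ones 819) ip4 4), (sel (ones 819) ip4 5), (sel (ones 819) ip4 6), (sel (ones 819) ip4 7), (sel (ones 819) ip4 8), (sel (ones 819) ip4 9), (sel (ones 819) ip4 10), 1] = true := by decide +kernel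

theorem tl4 : T.treeLt 10 4 = true := by decide +kernel

theorem rot5_1 : T.rot 5 [11] (sel (ones 819) ip5 1) = true := by decide +kernel

theorem rot5_1r : band (Rule.ok (2 * 0) EX RL ⟨5 :: [11], [], 20, false⟩) (lall (memL L) [11]) = true := by decide +kernel

theorem rot5_2 : T.rot 5 [5] (sel (ones 819) ip5 2) = true := by decide +kernel

theorem rot5_2r : band (Rule.ok (2 * 0) EX RL ⟨5 :: [5], [], 4, true⟩) (lall (memL L) [5]) = true := by decide +kernel

theorem rot5_3 : T.rot 5 [1, 5, 1] (sel (ones 819) ip5 3) = true := by decide +kernel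

theorem rot5_3r : band (Rule.ok (2 * 0) EX RL ⟨5 :: [1, 5, 1], [], 6, true⟩) (lall (memL L) [1, 5, 1]) = true := by decide +kernel

theorem rot5_4 : T.rot 5 [2, 5, 2] (sel (ones 819) ip5 4) = true := by decide +kernel

theorem rot5_4r : band (Rule.ok (2 * 0) EX RL ⟨5 :: [2, 5, 2], [], 9, true⟩) (lall (memL L) [2, 5, 2]) = true := by decide +kernel

theorem rot5_5 : T.rot 5 [3, 5, 3] (sel (ones 819) ip5 5) = true := by decide +kernel

theorem rot5_5r : band (Rule.ok (2 * 0) EX RL ⟨5 :: [3, 5, 3], [], 11, true⟩) (lall (memL L) [3, 5, 3]) = true := by decide +kernel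

theorem rot5_6 : T.rot 5 [4, 5, 4, 5, 4] (sel (ones 819) ip5 6) = true := by decide +kernel

theorem rot5_6r : band (Rule.ok (2 * 0) EX RL ⟨5 :: [4, 5, 4, 5, 4], [], 12, true⟩) (lall (memL L) [4, 5, 4, 5, 4]) = true := by decide +kernel

theorem rot5_7 : T.rot 5 [12, 11, 6, 6, 6, 11, 12, 12] (sel (ones 819) ip5 7) = true := by decide +kernel

theorem rot5_7r : band (Rule.ok (2 * 0) EX RL ⟨5 :: [12, 11, 6, 6, 6, 11, 12, 12], [9, 11, 8], 19, true⟩) (lall (memL L) [12, 11, 6, 6, 6, 11, 12, 12]) = true := by decide +kernel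

theorem rot5_8 : T.rot 5 [6, 11, 6, 6, 5, 12, 12, 12] (sel (ones 819) ip5 8) = true := by decide +kernel

theorem rot5_8r : band (Rule.ok (2 * 0) EX RL ⟨5 :: [6, 11, 6, 6, 5, 12, 12, 12], [], 19, false⟩) (lall (memL L) [6, 11, 6, 6, 5, 12, 12, 12]) = true := by decide +kernel

theorem rot5_9 : T.rot 5 [12, 12, 12, 5, 6, 11, 6, 6] (sel (ones 819) ip5 9) = true := by decide +kernel

theorem rot5_9r : band (Rule.ok (2 * 0) EX RL ⟨5 :: [12, 12, 12, 5, 6, 11, 6, 6], [11, 11, 11, 8], 19, false⟩) (lall (memL L) [12, 12, 12, 5, 6, 11, 6, 6]) = true := by decide +kernel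

theorem rot5_10 : T.rot 5 [4, 3, 2, 5, 4, 3, 2, 5, 4, 3, 2, 5, 4, 3, 2, 5, 4, 3, 2, 5, 4, 3, 2, 5, 4, 3, 2, 5, 4, 3, 2] (sel (ones 819) ip5 10) = true := by decide +kernel

theorem rot5_10r : band (Rule.ok (2 * 0) EX RL ⟨5 :: [4, 3, 2, 5, 4, 3, 2, 5, 4, 3, 2, 5, 4, 3, 2, 5, 4, 3, 2, 5, 4, 3, 2, 5, 4, 3, 2, 5, 4, 3, 2], [], 13, true⟩) (lall (memL L) [4, 3, 2, 5, 4, 3, 2, 5, 4, 3, 2, 5, 4, 3, 2, 5, 4, 3, 2, 5, 4, 3, 2, 5, 4, 3, 2, 5, 4, 3, 2]) = true := by decide +kernel

theorem ep0a : T.treePath [2, 1, 3, 2, 4, 3, 4] (Nat.shiftLeft 1 32) 1 = true := by decide +kernel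

theorem ep0b : T.treePath [2, 1, 3, 2, 4, 3, 4] (Nat.shiftLeft 1 32) 1 = true := by decide +kernel

theorem ep0c : band (lall (fun z => Nat.ble z 255) ([2, 1, 3, 2, 4, 3, 4] ++ 5 :: [10, 9, 10, 8, 9, 7, 8])) (concl F IV 1607 0x10000180001c0001600013000108000fc0141c0003e000100000480001400006000010000000f (encA ([2, 1, 3, 2, 4, 3, 4] ++ 5 :: [10, 9, 10, 8, 9, 7, 8]) 0)) = true := by decide +kernel

theorem ep0d : band (Rule.ok (2 * 0) EX [] ⟨lapp [2, 1, 3, 2, 4, 3, 4] [10, 9, 10, 8, 9, 7, 8], [], 0, false⟩) (band (lall (memL L) [2, 1, 3, 2, 4, 3, 4]) (lall (memL L) [2, 1, 3, 2, 4, 3, 4])) = true := by decide +kernel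

theorem ep1a : T.treePath [2, 3, 4, 3, 2, 5, 4, 3, 4, 6] (Nat.shiftLeft 1 201) 1 = true := by decide +kernel

theorem ep1b : T.treePath [2, 3, 4, 3, 2, 5, 4, 3, 4, 6] (Nat.shiftLeft 1 201) 1 = true := by decide +kernel

theorem ep1c : band (lall (fun z => Nat.ble z 255) ([2, 3, 4, 3, 2, 5, 4, 3, 4, 6] ++ 5 :: [12, 10, 9, 10, 11, 8, 9, 10, 9, 8])) (concl F IV 1607 0x40000a00009000078000640005e000590004c8003bc0028e00c8c000a30003b80013000058000170000600001c000080000200000015 (encA ([2, 3, 4, 3, 2, 5, 4, 3, 4, 6] ++ 5 :: [12, 10, 9, 10, 11, 8, 9, 10, 9, 8]) 0)) = true := by decide +kernel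

theorem ep1d : band (Rule.ok (2 * 0) EX [] ⟨lapp [2, 3, 4, 3, 2, 5, 4, 3, 4, 6] [12, 10, 9, 10, 11, 8, 9, 10, 9, 8], [], 0, false⟩) (band (lall (memL L) [2, 3, 4, 3, 2, 5, 4, 3, 4, 6]) (lall (memL L) [2, 3, 4, 3, 2, 5, 4, 3, 4, 6])) = true := by decide +kernel

theorem cov5 : T.cover 5 [(sel (ones 819) ip5 1), (sel (ones 819) ip5 2), (sel (ones 819) ip5 3), (sel (ones 819) ip5 4), (sel (ones 819) ip5 5), (sel (ones 819) ip5 6), (sel (ones 819) ip5 7), (sel (ones 819) ip5 8), (sel (ones 819) ip5 9), (sel (ones 819) ip5 10), 1, (Nat.shiftLeft 1 32), (Nat.shiftLeft 1 201)] = true := by decide +kernel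

theorem tl5 : T.treeLt 10 5 = true := by decide +kernel

theorem rot6_1 : T.rot 6 [12] (sel (ones 819) ip6 1) = true := by decide +kernel

theorem rot6_1r : band (Rule.ok (2 * 0) EX RL ⟨6 :: [12], [], 20, false⟩) (lall (memL L) [12]) = true := by decide +kernel

theorem rot6_2 : T.rot 6 [7, 12, 1] (sel (ones 819) ip6 2) = true := by decide +kernel

theorem rot6_2r : band (Rule.ok (2 * 0) EX RL ⟨6 :: [7, 12, 1], [1], 15, true⟩) (lall (memL L) [7, 12, 1]) = true := by decide +kernel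

theorem rot6_3 : T.rot 6 [1, 12, 7] (sel (ones 819) ip6 3) = true := by decide +kernel

theorem rot6_3r : band (Rule.ok (2 * 0) EX RL ⟨6 :: [1, 12, 7], [], 15, false⟩) (lall (memL L) [1, 12, 7]) = true := by decide +kernel

theorem rot6_4 : T.rot 6 [8, 12, 2] (sel (ones 819) ip6 4) = true := by decide +kernel

theorem rot6_4r : band (Rule.ok (2 * 0) EX RL ⟨6 :: [8, 12, 2], [3], 16, true⟩) (lall (memL L) [8, 12, 2]) = true := by decide +kernel

theorem rot6_5 : T.rot 6 [2, 12, 8] (sel (ones 819) ip6 5) = true := by decide +kernel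

theorem rot6_5r : band (Rule.ok (2 * 0) EX RL ⟨6 :: [2, 12, 8], [], 16, false⟩) (lall (memL L) [2, 12, 8]) = true := by decide +kernel

theorem rot6_6 : T.rot 6 [9, 12, 3] (sel (ones 819) ip6 6) = true := by decide +kernel

theorem rot6_6r : band (Rule.ok (2 * 0) EX RL ⟨6 :: [9, 12, 3], [5], 17, true⟩) (lall (memL L) [9, 12, 3]) = true := by decide +kernel

theorem rot6_7 : T.rot 6 [3, 12, 9] (sel (ones 819) ip6 7) = true := by decide +kernel

theorem rot6_7r : band (Rule.ok (2 * 0) EX RL ⟨6 :: [3, 12, 9], [], 17, false⟩) (lall (memL L) [3, 12, 9]) = true := by decide +kernel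

theorem rot6_8 : T.rot 6 [4, 6, 4] (sel (ones 819) ip6 8) = true := by decide +kernel

theorem rot6_8r : band (Rule.ok (2 * 0) EX RL ⟨6 :: [4, 6, 4], [10], 18, true⟩) (lall (memL L) [4, 6, 4]) = true := by decide +kernel

theorem rot6_9 : T.rot 6 [6, 6, 6, 6, 6, 6] (sel (ones 819) ip6 9) = true := by decide +kernel

theorem rot6_9r : band (Rule.ok (2 * 0) EX RL ⟨6 :: [6, 6, 6, 6, 6, 6], [], 14, true⟩) (lall (memL L) [6, 6, 6, 6, 6, 6]) = true := by decide +kernel

theorem rot6_10 : T.rot 6 [6, 6, 11, 12, 12, 5, 12, 11] (sel (ones 819) ip6 10) = true := by decide +kernel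

theorem rot6_10r : band (Rule.ok (2 * 0) EX RL ⟨6 :: [6, 6, 11, 12, 12, 5, 12, 11], [], 19, true⟩) (lall (memL L) [6, 6, 11, 12, 12, 5, 12, 11]) = true := by decide +kernel

theorem rot6_11 : T.rot 6 [6, 11, 12, 12, 5, 12, 11, 6] (sel (ones 819) ip6 11) = true := by decide +kernel

theorem rot6_11r : band (Rule.ok (2 * 0) EX RL ⟨6 :: [6, 11, 12, 12, 5, 12, 11, 6], [11], 19, true⟩) (lall (memL L) [6, 11, 12, 12, 5, 12, 11, 6]) = true := by decide +kernel

theorem rot6_12 : T.rot 6 [11, 12, 12, 5, 12, 11, 6, 6] (sel (ones 819) ip6 12) = true := by decide +kernel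

theorem rot6_12r : band (Rule.ok (2 * 0) EX RL ⟨6 :: [11, 12, 12, 5, 12, 11, 6, 6], [11, 11], 19, true⟩) (lall (memL L) [11, 12, 12, 5, 12, 11, 6, 6]) = true := by decide +kernel

theorem rot6_13 : T.rot 6 [11, 6, 6, 5, 12, 12, 12, 5] (sel (ones 819) ip6 13) = true := by decide +kernel

theorem rot6_13r : band (Rule.ok (2 * 0) EX RL ⟨6 :: [11, 6, 6, 5, 12, 12, 12, 5], [9], 19, false⟩) (lall (memL L) [11, 6, 6, 5, 12, 12, 12, 5]) = true := by decide +kernel

theorem rot6_14 : T.rot 6 [6, 5, 12, 12, 12, 5, 6, 11] (sel (ones 819) ip6 14) = true := by decide +kernel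

theorem rot6_14r : band (Rule.ok (2 * 0) EX RL ⟨6 :: [6, 5, 12, 12, 12, 5, 6, 11], [9, 11, 8], 19, false⟩) (lall (memL L) [6, 5, 12, 12, 12, 5, 6, 11]) = true := by decide +kernel

theorem rot6_15 : T.rot 6 [5, 12, 12, 12, 5, 6, 11, 6] (sel (ones 819) ip6 15) = true := by decide +kernel

theorem rot6_15r : band (Rule.ok (2 * 0) EX RL ⟨6 :: [5, 12, 12, 12, 5, 6, 11, 6], [9, 11, 8, 11], 19, false⟩) (lall (memL L) [5, 12, 12, 12, 5, 6, 11, 6]) = true := by decide +kernel

theorem cov6 : T.cover 6 [(sel (ones 819) ip6 1), (sel (ones 819) ip6 2), (sel (ones 819) ip6 3), (sel (ones 819) ip6 4), (sel (ones 819) ip6 5), (sel (ones 819) ip6 6), (sel (ones 819) ip6 7), (sel (ones 819) ip6 8), (sel (ones 819) ip6 9), (sel (ones 819) ip6 10), (sel (ones 819) ip6 11), (sel (ones 819) ip6 12), (sel (ones 819) ip6 13), (sel (ones 819) ip6 14), (sel (ones 819) ip6 15), 1] = true := by decide +kernel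

theorem tl6 : T.treeLt 10 6 = true := by decide +kernel

theorem rot7_1 : T.rot 7 [1] (sel (ones 819) ip7 1) = true := by decide +kernel

theorem rot7_1r : band (Rule.ok (2 * 0) EX RL ⟨7 :: [1], [], 20, false⟩) (lall (memL L) [1]) = true := by decide +kernel

theorem rot7_2 : T.rot 7 [7] (sel (ones 819) ip7 2) = true := by decide +kernel

theorem rot7_2r : band (Rule.ok (2 * 0) EX RL ⟨7 :: [7], [], 0, false⟩) (lall (memL L) [7]) = true := by decide +kernel

theorem rot7_3 : T.rot 7 [11, 7, 11] (sel (ones 819) ip7 3) = true := by decide +kernel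

theorem rot7_3r : band (Rule.ok (2 * 0) EX RL ⟨7 :: [11, 7, 11], [], 6, false⟩) (lall (memL L) [11, 7, 11]) = true := by decide +kernel

theorem rot7_4 : T.rot 7 [12, 1, 6] (sel (ones 819) ip7 4) = true := by decide +kernel

theorem rot7_4r : band (Rule.ok (2 * 0) EX RL ⟨7 :: [12, 1, 6], [11, 1], 15, true⟩) (lall (memL L) [12, 1, 6]) = true := by decide +kernel

theorem rot7_5 : T.rot 7 [6, 1, 12] (sel (ones 819) ip7 5) = true := by decide +kernel

theorem rot7_5r : band (Rule.ok (2 * 0) EX RL ⟨7 :: [6, 1, 12], [1], 15, false⟩) (lall (memL L) [6, 1, 12]) = true := by decide +kernel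

theorem rot7_6 : T.rot 7 [8, 7, 8, 7, 8] (sel (ones 819) ip7 6) = true := by decide +kernel

theorem rot7_6r : band (Rule.ok (2 * 0) EX RL ⟨7 :: [8, 7, 8, 7, 8], [], 5, false⟩) (lall (memL L) [8, 7, 8, 7, 8]) = true := by decide +kernel

theorem rot7_7 : T.rot 7 [4, 3, 4, 3, 4, 3, 4, 3] (sel (ones 819) ip7 7) = true := by decide +kernel

theorem rot7_7r : band (Rule.ok (2 * 0) EX RL ⟨7 :: [4, 3, 4, 3, 4, 3, 4, 3], [], 10, false⟩) (lall (memL L) [4, 3, 4, 3, 4, 3, 4, 3]) = true := by decide +kernel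

theorem cov7 : T.cover 7 [(sel (ones 819) ip7 1), (sel (ones 819) ip7 2), (sel (ones 819) ip7 3), (sel (ones 819) ip7 4), (sel (ones 819) ip7 5), (sel (ones 819) ip7 6), (sel (ones 819) ip7 7)] = true := by decide +kernel

theorem tl7 : Nat.beq (T.let 7).tt 0 = true := by decide +kernel

theorem rot8_1 : T.rot 8 [2] (sel (ones 819) ip8 1) = true := by decide +kernel

theorem rot8_1r : band (Rule.ok (2 * 0) EX RL ⟨8 :: [2], [], 20, false⟩) (lall (memL L) [2]) = true := by decide +kernel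

theorem rot8_2 : T.rot 8 [8] (sel (ones 819) ip8 2) = true := by decide +kernel

theorem rot8_2r : band (Rule.ok (2 * 0) EX RL ⟨8 :: [8], [], 1, false⟩) (lall (memL L) [8]) = true := by decide +kernel

theorem rot8_3 : T.rot 8 [10, 8, 10] (sel (ones 819) ip8 3) = true := by decide +kernel

theorem rot8_3r : band (Rule.ok (2 * 0) EX RL ⟨8 :: [10, 8, 10], [], 8, false⟩) (lall (memL L) [10, 8, 10]) = true := by decide +kernel

theorem rot8_4 : T.rot 8 [11, 8, 11] (sel (ones 819) ip8 4) = true := by decide +kernel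

theorem rot8_4r : band (Rule.ok (2 * 0) EX RL ⟨8 :: [11, 8, 11], [], 9, false⟩) (lall (memL L) [11, 8, 11]) = true := by decide +kernel

theorem rot8_5 : T.rot 8 [12, 2, 6] (sel (ones 819) ip8 5) = true := by decide +kernel

theorem rot8_5r : band (Rule.ok (2 * 0) EX RL ⟨8 :: [12, 2, 6], [11, 3], 16, true⟩) (lall (memL L) [12, 2, 6]) = true := by decide +kernel

theorem rot8_6 : T.rot 8 [6, 2, 12] (sel (ones 819) ip8 6) = true := by decide +kernel

theorem rot8_6r : band (Rule.ok (2 * 0) EX RL ⟨8 :: [6, 2, 12], [3], 16, false⟩) (lall (memL L) [6, 2, 12]) = true := by decide +kernel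

theorem rot8_7 : T.rot 8 [7, 8, 7, 8, 7] (sel (ones 819) ip8 7) = true := by decide +kernel

theorem rot8_7r : band (Rule.ok (2 * 0) EX RL ⟨8 :: [7, 8, 7, 8, 7], [3], 5, false⟩) (lall (memL L) [7, 8, 7, 8, 7]) = true := by decide +kernel

theorem rot8_8 : T.rot 8 [9, 8, 9, 8, 9] (sel (ones 819) ip8 8) = true := by decide +kernel

theorem rot8_8r : band (Rule.ok (2 * 0) EX RL ⟨8 :: [9, 8, 9, 8, 9], [], 7, false⟩) (lall (memL L) [9, 8, 9, 8, 9]) = true := by decide +kernel

theorem rot8_9 : T.rot 8 [9, 10, 11, 8, 9, 10, 11, 8, 9, 10, 11, 8, 9, 10, 11, 8, 9, 10, 11, 8, 9, 10, 11, 8, 9, 10, 11, 8, 9, 10, 11] (sel (ones 819) ip8 9) = true := by decide +kernel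

theorem rot8_9r : band (Rule.ok (2 * 0) EX RL ⟨8 :: [9, 10, 11, 8, 9, 10, 11, 8, 9, 10, 11, 8, 9, 10, 11, 8, 9, 10, 11, 8, 9, 10, 11, 8, 9, 10, 11, 8, 9, 10, 11], [], 13, false⟩) (lall (memL L) [9, 10, 11, 8, 9, 10, 11, 8, 9, 10, 11, 8, 9, 10, 11, 8, 9, 10, 11, 8, 9, 10, 11, 8, 9, 10, 11, 8, 9, 10, 11]) = true := by decide +kernel

theorem cov8 : T.cover 8 [(sel (ones 819) ip8 1), (sel (ones 819) ip8 2), (sel (ones 819) ip8 3), (sel (ones 819) ip8 4), (sel (ones 819) ip8 5), (sel (ones 819) ip8 6), (sel (ones 819) ip8 7), (sel (ones 819) ip8 8), (sel (ones 819) ip8 9)] = true := by decide +kernel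

theorem tl8 : Nat.beq (T.let 8).tt 0 = true := by decide +kernel

theorem rot9_1 : T.rot 9 [3] (sel (ones 819) ip9 1) = true := by decide +kernel

theorem rot9_1r : band (Rule.ok (2 * 0) EX RL ⟨9 :: [3], [], 20, false⟩) (lall (memL L) [3]) = true := by decide +kernel

theorem rot9_2 : T.rot 9 [9] (sel (ones 819) ip9 2) = true := by decide +kernel

theorem rot9_2r : band (Rule.ok (2 * 0) EX RL ⟨9 :: [9], [], 2, false⟩) (lall (memL L) [9]) = true := by decide +kernel

theorem rot9_3 : T.rot 9 [11, 9, 11] (sel (ones 819) ip9 3) = true := by decide +kernel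

theorem rot9_3r : band (Rule.ok (2 * 0) EX RL ⟨9 :: [11, 9, 11], [], 11, false⟩) (lall (memL L) [11, 9, 11]) = true := by decide +kernel

theorem rot9_4 : T.rot 9 [12, 3, 6] (sel (ones 819) ip9 4) = true := by decide +kernel

theorem rot9_4r : band (Rule.ok (2 * 0) EX RL ⟨9 :: [12, 3, 6], [11, 5], 17, true⟩) (lall (memL L) [12, 3, 6]) = true := by decide +kernel

theorem rot9_5 : T.rot 9 [6, 3, 12] (sel (ones 819) ip9 5) = true := by decide +kernel

theorem rot9_5r : band (Rule.ok (2 * 0) EX RL ⟨9 :: [6, 3, 12], [5], 17, false⟩) (lall (memL L) [6, 3, 12]) = true := by decide +kernel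

theorem rot9_6 : T.rot 9 [8, 9, 8, 9, 8] (sel (ones 819) ip9 6) = true := by decide +kernel

theorem rot9_6r : band (Rule.ok (2 * 0) EX RL ⟨9 :: [8, 9, 8, 9, 8], [5], 7, false⟩) (lall (memL L) [8, 9, 8, 9, 8]) = true := by decide +kernel

theorem rot9_7 : T.rot 9 [10, 9, 10, 9, 10, 9, 10, 1] (sel (ones 819) ip9 7) = true := by decide +kernel

theorem rot9_7r : band (Rule.ok (2 * 0) EX RL ⟨9 :: [10, 9, 10, 9, 10, 9, 10, 1], [], 10, true⟩) (lall (memL L) [10, 9, 10, 9, 10, 9, 10, 1]) = true := by decide +kernel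

theorem rot9_8 : T.rot 9 [10, 9, 10, 9, 10, 1, 9, 10] (sel (ones 819) ip9 8) = true := by decide +kernel

theorem rot9_8r : band (Rule.ok (2 * 0) EX RL ⟨9 :: [10, 9, 10, 9, 10, 1, 9, 10], [4, 6], 10, true⟩) (lall (memL L) [10, 9, 10, 9, 10, 1, 9, 10]) = true := by decide +kernel

theorem rot9_9 : T.rot 9 [10, 9, 10, 1, 9, 10, 9, 10] (sel (ones 819) ip9 9) = true := by decide +kernel

theorem rot9_9r : band (Rule.ok (2 * 0) EX RL ⟨9 :: [10, 9, 10, 1, 9, 10, 9, 10], [4, 6, 4, 6], 10, true⟩) (lall (memL L) [10, 9, 10, 1, 9, 10, 9, 10]) = true := by decide +kernel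

theorem rot9_10 : T.rot 9 [10, 1, 9, 10, 9, 10, 9, 10] (sel (ones 819) ip9 10) = true := by decide +kernel

theorem rot9_10r : band (Rule.ok (2 * 0) EX RL ⟨9 :: [10, 1, 9, 10, 9, 10, 9, 10], [0, 7, 5], 10, true⟩) (lall (memL L) [10, 1, 9, 10, 9, 10, 9, 10]) = true := by decide +kernel

theorem rot9_11 : T.rot 9 [10, 11, 8, 9, 10, 11, 8, 9, 10, 11, 8, 9, 10, 11, 8, 9, 10, 11, 8, 9, 10, 11, 8, 9, 10, 11, 8, 9, 10, 11, 8] (sel (ones 819) ip9 11) = true := by decide +kernel

theorem rot9_11r : band (Rule.ok (2 * 0) EX RL ⟨9 :: [10, 11, 8, 9, 10, 11, 8, 9, 10, 11, 8, 9, 10, 11, 8, 9, 10, 11, 8, 9, 10, 11, 8, 9, 10, 11, 8, 9, 10, 11, 8], [2], 13, false⟩) (lall (memL L) [10, 11, 8, 9, 10, 11, 8, 9, 10, 11, 8, 9, 10, 11, 8, 9, 10, 11, 8, 9, 10, 11, 8, 9, 10, 11, 8, 9, 10, 11, 8]) = true := by decide +kernel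

theorem cov9 : T.cover 9 [(sel (ones 819) ip9 1), (sel (ones 819) ip9 2), (sel (ones 819) ip9 3), (sel (ones 819) ip9 4), (sel (ones 819) ip9 5), (sel (ones 819) ip9 6), (sel (ones 819) ip9 7), (sel (ones 819) ip9 8), (sel (ones 819) ip9 9), (sel (ones 819) ip9 10), (sel (ones 819) ip9 11)] = true := by decide +kernel

theorem tl9 : Nat.beq (T.let 9).tt 0 = true := by decide +kernel

theorem rot10_1 : T.rot 10 [4] (sel (ones 819) ip10 1) = true := by decide +kernel

theorem rot10_1r : band (Rule.ok (2 * 0) EX RL ⟨10 :: [4], [], 20, false⟩) (lall (memL L) [4]) = true := by decide +kernel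

theorem rot10_2 : T.rot 10 [10] (sel (ones 819) ip10 2) = true := by decide +kernel

theorem rot10_2r : band (Rule.ok (2 * 0) EX RL ⟨10 :: [10], [], 3, false⟩) (lall (memL L) [10]) = true := by decide +kernel

theorem rot10_3 : T.rot 10 [8, 10, 8] (sel (ones 819) ip10 3) = true := by decide +kernel

theorem rot10_3r : band (Rule.ok (2 * 0) EX RL ⟨10 :: [8, 10, 8], [7], 8, false⟩) (lall (memL L) [8, 10, 8]) = true := by decide +kernel

theorem rot10_4 : T.rot 10 [12, 10, 12] (sel (ones 819) ip10 4) = true := by decide +kernel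

theorem rot10_4r : band (Rule.ok (2 * 0) EX RL ⟨10 :: [12, 10, 12], [7], 18, false⟩) (lall (memL L) [12, 10, 12]) = true := by decide +kernel

theorem rot10_5 : T.rot 10 [11, 10, 11, 10, 11] (sel (ones 819) ip10 5) = true := by decide +kernel

theorem rot10_5r : band (Rule.ok (2 * 0) EX RL ⟨10 :: [11, 10, 11, 10, 11], [], 12, false⟩) (lall (memL L) [11, 10, 11, 10, 11]) = true := by decide +kernel

theorem rot10_6 : T.rot 10 [9, 10, 9, 10, 9, 10, 1, 9] (sel (ones 819) ip10 6) = true := by decide +kernel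

theorem rot10_6r : band (Rule.ok (2 * 0) EX RL ⟨10 :: [9, 10, 9, 10, 9, 10, 1, 9], [4], 10, true⟩) (lall (memL L) [9, 10, 9, 10, 9, 10, 1, 9]) = true := by decide +kernel

theorem rot10_7 : T.rot 10 [9, 10, 9, 10, 1, 9, 10, 9] (sel (ones 819) ip10 7) = true := by decide +kernel

theorem rot10_7r : band (Rule.ok (2 * 0) EX RL ⟨10 :: [9, 10, 9, 10, 1, 9, 10, 9], [4, 6, 4], 10, true⟩) (lall (memL L) [9, 10, 9, 10, 1, 9, 10, 9]) = true := by decide +kernel

theorem rot10_8 : T.rot 10 [9, 10, 1, 9, 10, 9, 10, 9] (sel (ones 819) ip10 8) = true := by decide +kernel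

theorem rot10_8r : band (Rule.ok (2 * 0) EX RL ⟨10 :: [9, 10, 1, 9, 10, 9, 10, 9], [0, 7, 5, 7], 10, true⟩) (lall (memL L) [9, 10, 1, 9, 10, 9, 10, 9]) = true := by decide +kernel

theorem rot10_9 : T.rot 10 [1, 9, 10, 9, 10, 9, 10, 9] (sel (ones 819) ip10 9) = true := by decide +kernel

theorem rot10_9r : band (Rule.ok (2 * 0) EX RL ⟨10 :: [1, 9, 10, 9, 10, 9, 10, 9], [0, 7], 10, true⟩) (lall (memL L) [1, 9, 10, 9, 10, 9, 10, 9]) = true := by decide +kernel

theorem rot10_10 : T.rot 10 [11, 8, 9, 10, 11, 8, 9, 10, 11, 8, 9, 10, 11, 8, 9, 10, 11, 8, 9, 10, 11, 8, 9, 10, 11, 8, 9, 10, 11, 8, 9] (sel (ones 819) ip10 10) = true := by decide +kernel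

theorem rot10_10r : band (Rule.ok (2 * 0) EX RL ⟨10 :: [11, 8, 9, 10, 11, 8, 9, 10, 11, 8, 9, 10, 11, 8, 9, 10, 11, 8, 9, 10, 11, 8, 9, 10, 11, 8, 9, 10, 11, 8, 9], [9, 7], 13, false⟩) (lall (memL L) [11, 8, 9, 10, 11, 8, 9, 10, 11, 8, 9, 10, 11, 8, 9, 10, 11, 8, 9, 10, 11, 8, 9, 10, 11, 8, 9, 10, 11, 8, 9]) = true := by decide +kernel

theorem cov10 : T.cover 10 [(sel (ones 819) ip10 1), (sel (ones 819) ip10 2), (sel (ones 819) ip10 3), (sel (ones 819) ip10 4), (sel (ones 819) ip10 5), (sel (ones 819) ip10 6), (sel (ones 819) ip10 7), (sel (ones 819) ip10 8), (sel (ones 819) ip10 9), (sel (ones 819) ip10 10)] = true := by decide +kernel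

theorem tl10 : Nat.beq (T.let 10).tt 0 = true := by decide +kernel

theorem rot11_1 : T.rot 11 [5] (sel (ones 819) ip11 1) = true := by decide +kernel

theorem rot11_1r : band (Rule.ok (2 * 0) EX RL ⟨11 :: [5], [], 20, false⟩) (lall (memL L) [5]) = true := by decide +kernel

theorem rot11_2 : T.rot 11 [11] (sel (ones 819) ip11 2) = true := by decide +kernel

theorem rot11_2r : band (Rule.ok (2 * 0) EX RL ⟨11 :: [11], [], 4, false⟩) (lall (memL L) [11]) = true := by decide +kernel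

theorem rot11_3 : T.rot 11 [7, 11, 7] (sel (ones 819) ip11 3) = true := by decide +kernel

theorem rot11_3r : band (Rule.ok (2 * 0) EX RL ⟨11 :: [7, 11, 7], [9], 6, false⟩) (lall (memL L) [7, 11, 7]) = true := by decide +kernel

theorem rot11_4 : T.rot 11 [8, 11, 8] (sel (ones 819) ip11 4) = true := by decide +kernel

theorem rot11_4r : band (Rule.ok (2 * 0) EX RL ⟨11 :: [8, 11, 8], [9], 9, false⟩) (lall (memL L) [8, 11, 8]) = true := by decide +kernel

theorem rot11_5 : T.rot 11 [9, 11, 9] (sel (ones 819) ip11 5) = true := by decide +kernel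

theorem rot11_5r : band (Rule.ok (2 * 0) EX RL ⟨11 :: [9, 11, 9], [9], 11, false⟩) (lall (memL L) [9, 11, 9]) = true := by decide +kernel

theorem rot11_6 : T.rot 11 [10, 11, 10, 11, 10] (sel (ones 819) ip11 6) = true := by decide +kernel

theorem rot11_6r : band (Rule.ok (2 * 0) EX RL ⟨11 :: [10, 11, 10, 11, 10], [9], 12, false⟩) (lall (memL L) [10, 11, 10, 11, 10]) = true := by decide +kernel

theorem rot11_7 : T.rot 11 [12, 12, 5, 12, 11, 6, 6, 6] (sel (ones 819) ip11 7) = true := by decide +kernel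

theorem rot11_7r : band (Rule.ok (2 * 0) EX RL ⟨11 :: [12, 12, 5, 12, 11, 6, 6, 6], [11, 11, 11], 19, true⟩) (lall (memL L) [12, 12, 5, 12, 11, 6, 6, 6]) = true := by decide +kernel

theorem rot11_8 : T.rot 11 [6, 6, 6, 11, 12, 12, 5, 12] (sel (ones 819) ip11 8) = true := by decide +kernel

theorem rot11_8r : band (Rule.ok (2 * 0) EX RL ⟨11 :: [6, 6, 6, 11, 12, 12, 5, 12], [9], 19, true⟩) (lall (memL L) [6, 6, 6, 11, 12, 12, 5, 12]) = true := by decide +kernel

theorem rot11_9 : T.rot 11 [6, 6, 5, 12, 12, 12, 5, 6] (sel (ones 819) ip11 9) = true := by decide +kernel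

theorem rot11_9r : band (Rule.ok (2 * 0) EX RL ⟨11 :: [6, 6, 5, 12, 12, 12, 5, 6], [9, 11], 19, false⟩) (lall (memL L) [6, 6, 5, 12, 12, 12, 5, 6]) = true := by decide +kernel

theorem rot11_10 : T.rot 11 [8, 9, 10, 11, 8, 9, 10, 11, 8, 9, 10, 11, 8, 9, 10, 11, 8, 9, 10, 11, 8, 9, 10, 11, 8, 9, 10, 11, 8, 9, 10] (sel (ones 819) ip11 10) = true := by decide +kernel

theorem rot11_10r : band (Rule.ok (2 * 0) EX RL ⟨11 :: [8, 9, 10, 11, 8, 9, 10, 11, 8, 9, 10, 11, 8, 9, 10, 11, 8, 9, 10, 11, 8, 9, 10, 11, 8, 9, 10, 11, 8, 9, 10], [9], 13, false⟩) (lall (memL L) [8, 9, 10, 11, 8, 9, 10, 11, 8, 9, 10, 11, 8, 9, 10, 11, 8, 9, 10, 11, 8, 9, 10, 11, 8, 9, 10, 11, 8, 9, 10]) = true := by decide +kernel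

theorem cov11 : T.cover 11 [(sel (ones 819) ip11 1), (sel (ones 819) ip11 2), (sel (ones 819) ip11 3), (sel (ones 819) ip11 4), (sel (ones 819) ip11 5), (sel (ones 819) ip11 6), (sel (ones 819) ip11 7), (sel (ones 819) ip11 8), (sel (ones 819) ip11 9), (sel (ones 819) ip11 10)] = true := by decide +kernel

theorem tl11 : Nat.beq (T.let 11).tt 0 = true := by decide +kernel

theorem rot12_1 : T.rot 12 [6] (sel (ones 819) ip12 1) = true := by decide +kernel

theorem rot12_1r : band (Rule.ok (2 * 0) EX RL ⟨12 :: [6], [], 20, false⟩) (lall (memL L) [6]) = true := by decide +kernel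

theorem rot12_2 : T.rot 12 [1, 6, 7] (sel (ones 819) ip12 2) = true := by decide +kernel

theorem rot12_2r : band (Rule.ok (2 * 0) EX RL ⟨12 :: [1, 6, 7], [11], 15, true⟩) (lall (memL L) [1, 6, 7]) = true := by decide +kernel

theorem rot12_3 : T.rot 12 [7, 6, 1] (sel (ones 819) ip12 3) = true := by decide +kernel

theorem rot12_3r : band (Rule.ok (2 * 0) EX RL ⟨12 :: [7, 6, 1], [1, 11], 15, false⟩) (lall (memL L) [7, 6, 1]) = true := by decide +kernel

theorem rot12_4 : T.rot 12 [2, 6, 8] (sel (ones 819) ip12 4) = true := by decide +kernel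

theorem rot12_4r : band (Rule.ok (2 * 0) EX RL ⟨12 :: [2, 6, 8], [11], 16, true⟩) (lall (memL L) [2, 6, 8]) = true := by decide +kernel

theorem rot12_5 : T.rot 12 [8, 6, 2] (sel (ones 819) ip12 5) = true := by decide +kernel

theorem rot12_5r : band (Rule.ok (2 * 0) EX RL ⟨12 :: [8, 6, 2], [3, 11], 16, false⟩) (lall (memL L) [8, 6, 2]) = true := by decide +kernel

theorem rot12_6 : T.rot 12 [3, 6, 9] (sel (ones 819) ip12 6) = true := by decide +kernel

theorem rot12_6r : band (Rule.ok (2 * 0) EX RL ⟨12 :: [3, 6, 9], [11], 17, true⟩) (lall (memL L) [3, 6, 9]) = true := by decide +kernel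

theorem rot12_7 : T.rot 12 [9, 6, 3] (sel (ones 819) ip12 7) = true := by decide +kernel

theorem rot12_7r : band (Rule.ok (2 * 0) EX RL ⟨12 :: [9, 6, 3], [5, 11], 17, false⟩) (lall (memL L) [9, 6, 3]) = true := by decide +kernel

theorem rot12_8 : T.rot 12 [10, 12, 10] (sel (ones 819) ip12 8) = true := by decide +kernel

theorem rot12_8r : band (Rule.ok (2 * 0) EX RL ⟨12 :: [10, 12, 10], [], 18, false⟩) (lall (memL L) [10, 12, 10]) = true := by decide +kernel

theorem rot12_9 : T.rot 12 [12, 12, 12, 12, 12, 12] (sel (ones 819) ip12 9) = true := by decide +kernel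

theorem rot12_9r : band (Rule.ok (2 * 0) EX RL ⟨12 :: [12, 12, 12, 12, 12, 12], [], 14, false⟩) (lall (memL L) [12, 12, 12, 12, 12, 12]) = true := by decide +kernel

theorem rot12_10 : T.rot 12 [12, 5, 12, 11, 6, 6, 6, 11] (sel (ones 819) ip12 10) = true := by decide +kernel

theorem rot12_10r : band (Rule.ok (2 * 0) EX RL ⟨12 :: [12, 5, 12, 11, 6, 6, 6, 11], [11, 11, 11, 8], 19, true⟩) (lall (memL L) [12, 5, 12, 11, 6, 6, 6, 11]) = true := by decide +kernel

theorem rot12_11 : T.rot 12 [5, 12, 11, 6, 6, 6, 11, 12] (sel (ones 819) ip12 11) = true := by decide +kernel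

theorem rot12_11r : band (Rule.ok (2 * 0) EX RL ⟨12 :: [5, 12, 11, 6, 6, 6, 11, 12], [9, 11, 8, 11], 19, true⟩) (lall (memL L) [5, 12, 11, 6, 6, 6, 11, 12]) = true := by decide +kernel

theorem rot12_12 : T.rot 12 [11, 6, 6, 6, 11, 12, 12, 5] (sel (ones 819) ip12 12) = true := by decide +kernel

theorem rot12_12r : band (Rule.ok (2 * 0) EX RL ⟨12 :: [11, 6, 6, 6, 11, 12, 12, 5], [9, 11], 19, true⟩) (lall (memL L) [11, 6, 6, 6, 11, 12, 12, 5]) = true := by decide +kernel

theorem rot12_13 : T.rot 12 [12, 12, 5, 6, 11, 6, 6, 5] (sel (ones 819) ip12 13) = true := by decide +kernel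

theorem rot12_13r : band (Rule.ok (2 * 0) EX RL ⟨12 :: [12, 12, 5, 6, 11, 6, 6, 5], [11, 11, 11], 19, false⟩) (lall (memL L) [12, 12, 5, 6, 11, 6, 6, 5]) = true := by decide +kernel

theorem rot12_14 : T.rot 12 [12, 5, 6, 11, 6, 6, 5, 12] (sel (ones 819) ip12 14) = true := by decide +kernel

theorem rot12_14r : band (Rule.ok (2 * 0) EX RL ⟨12 :: [12, 5, 6, 11, 6, 6, 5, 12], [11, 11], 19, false⟩) (lall (memL L) [12, 5, 6, 11, 6, 6, 5, 12]) = true := by decide +kernel

theorem rot12_15 : T.rot 12 [5, 6, 11, 6, 6, 5, 12, 12] (sel (ones 819) ip12 15) = true := by decide +kernel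

theorem rot12_15r : band (Rule.ok (2 * 0) EX RL ⟨12 :: [5, 6, 11, 6, 6, 5, 12, 12], [11], 19, false⟩) (lall (memL L) [5, 6, 11, 6, 6, 5, 12, 12]) = true := by decide +kernel

theorem cov12 : T.cover 12 [(sel (ones 819) ip12 1), (sel (ones 819) ip12 2), (sel (ones 819) ip12 3), (sel (ones 819) ip12 4), (sel (ones 819) ip12 5), (sel (ones 819) ip12 6), (sel (ones 819) ip12 7), (sel (ones 819) ip12 8), (sel (ones 819) ip12 9), (sel (ones 819) ip12 10), (sel (ones 819) ip12 11), (sel (ones 819) ip12 12), (sel (ones 819) ip12 13), (sel (ones 819) ip12 14), (sel (ones 819) ip12 15)] = true := by decide +kernel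

theorem tl12 : T.treeLt 10 12 = true := by decide +kernel

end Cfsg.Agent.Spor.ThL
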